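import Cfsg.Agent.S0217
import Cfsg.Agent.S0205
import Cfsg.Agent.Cores.PCore
import Cfsg.Agent.Fusion.Basic
import Cfsg.Agent.Fusion.PComplement
import Cfsg.Agent.H26.Invol
import Cfsg.Agent.Components.PLocal

/-!
# An abelian Sylow 2-subgroup of rank at least three with fixed-point-free automizer

If no element of `N(P)` fixing a non-trivial element of `P` acts non-trivially, and `N(P)` is not
transitive on the non-trivial elements of `P`, then `O(X) P` is normal in `X`.
-/

set_option autoImplicit false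
set_option linter.unusedSectionVars false
set_option linter.style.haveILetI false

namespace Cfsg.Agent.H27.U34

open Subgroup Cfsg.Agent

universe u

variable {X : Type u} [Group X] [Finite X]

/-- A subgroup containing `N(P)` and the centralizers of the involutions of an abelian Sylow 2-subgroup
`P` is everything, unless `N(P)` is transitive on these involutions. -/
theorem eq_top_of_centralizers_le (P : Sylow 2 X) (hab : IsMulCommutative (P : Subgroup X))
    (hexp : ∀ p ∈ (P : Subgroup X), p * p = 1) {M : Subgroup X}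
    (hN : normalizer (P : Set X) ≤ M)
    (hC : ∀ u ∈ (P : Subgroup X), u ≠ 1 → centralizer ({u} : Set X) ≤ M)
    (hclass : ∃ u ∈ (P : Subgroup X), u ≠ 1 ∧ ∃ v ∈ (P : Subgroup X), v ≠ 1 ∧
      ∀ n ∈ normalizer (P : Set X), n * u * n⁻¹ ≠ v) : M = ⊤ := by
  haveI : Fact (Nat.Prime 2) := ⟨Nat.prime_two⟩
  by_contra htop
  obtain ⟨g, hg⟩ : ∃ g, g ∉ M := by
    by_contra! h
    exact htop ((eq_top_iff' M).2 h)
  have hPM : (P : Subgroup X) ≤ M := le_normalizer.trans hN
  have hctl := Fusion.controlsElementFusion_normalizer_of_commutative P hab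
  -- every 2-element of `M` is conjugate in `M` into `P`
  have hinto : ∀ w ∈ M, w * w = 1 → ∃ m ∈ M, m * w * m⁻¹ ∈ (P : Subgroup X) := by
    intro w hw hw2
    let w' : M := ⟨w, hw⟩
    have hp : IsPGroup 2 (zpowers w') := by
      rintro ⟨y, hy⟩
      obtain ⟨i, rfl⟩ := mem_zpowers_iff.1 hy
      refine ⟨1, Subtype.ext ?_⟩
      show (w' ^ i) ^ 2 ^ 1 = 1
      have : w' ^ (2 : ℕ) = 1 := Subtype.ext (by simpa [pow_two] using hw2)
      rw [pow_one, ← zpow_natCast, ← zpow_mul, mul_comm, zpow_mul, zpow_natCast, this, one_zpow]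
    obtain ⟨Q, hQ⟩ := hp.exists_le_sylow
    obtain ⟨m, hm⟩ := MulAction.exists_smul_eq M Q (P.subtype hPM)
    refine ⟨m, m.2, ?_⟩
    have : (MulAut.conj m) w' ∈ ((m • Q : Sylow 2 M) : Subgroup M) := by
      rw [Sylow.coe_subgroup_smul]
      exact ⟨w', hQ (mem_zpowers w'), rfl⟩
    rw [hm] at this
    exact this
  have hsq : ∀ u ∈ (P : Subgroup X), ∀ x : X, (x * u * x⁻¹) * (x * u * x⁻¹) = 1 := by
    intro u hu x
    calc (x * u * x⁻¹) * (x * u * x⁻¹) = x * (u * u) * x⁻¹ := by group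
      _ = 1 := by rw [hexp u hu, mul_one, mul_inv_cancel]
  have houtside : ∀ u ∈ (P : Subgroup X), u ≠ 1 → g * u * g⁻¹ ∉ M := by
    intro u hu hu1 h
    obtain ⟨m, hm, hmP⟩ := hinto _ h (hsq u hu g)
    have e : m * (g * u * g⁻¹) * m⁻¹ = (m * g) * u * (m * g)⁻¹ := by group
    rw [e] at hmP
    obtain ⟨n, hn, hnu⟩ := hctl u hu (m * g) hmP
    have h1 : (n⁻¹ * (m * g)) ∈ centralizer ({u} : Set X) := by
      rw [mem_centralizer_singleton_iff]
      calc n⁻¹ * (m * g) * u = n⁻¹ * ((m * g) * u * (m * g)⁻¹) * (m * g) := by group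
        _ = n⁻¹ * (n * u * n⁻¹) * (m * g) := by rw [hnu]
        _ = u * (n⁻¹ * (m * g)) := by group
    have h2 := mul_mem (inv_mem hm) (mul_mem (hN hn) (hC u hu hu1 h1))
    exact hg (by simpa [mul_assoc] using h2)
  -- involutions inside and outside `M` have product of odd order
  have hodd : ∀ w ∈ (P : Subgroup X), w ≠ 1 → ∀ v : X, v * v = 1 → v ∉ M →
      Odd (orderOf (w * v)) := by
    intro w hw hw1 v hv hvM
    by_contra hev
    rw [Nat.not_odd_iff_even] at hev
    obtain ⟨hio, hiw, hiv⟩ := H26.central_involution (hexp w hw) hv hev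
    set i := (w * v) ^ (orderOf (w * v) / 2)
    have hiM : i ∈ M := hC w hw hw1 (mem_centralizer_singleton_iff.2 hiw.eq)
    obtain ⟨m, hm, hmP⟩ := hinto i hiM (H26.mul_self_of_orderOf_two hio)
    have hne : m * i * m⁻¹ ≠ 1 := fun h =>
      H26.ne_one_of_orderOf_two hio (conj_eq_one_iff.1 h)
    have h2 : m * v * m⁻¹ ∈ centralizer ({m * i * m⁻¹} : Set X) := by
      rw [mem_centralizer_singleton_iff]
      calc m * v * m⁻¹ * (m * i * m⁻¹) = m * (v * i) * m⁻¹ := by group
        _ = m * (i * v) * m⁻¹ := by rw [hiv.eq]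
        _ = m * i * m⁻¹ * (m * v * m⁻¹) := by group
    have h3 := mul_mem (mul_mem (inv_mem hm) (hC _ hmP hne h2)) hm
    exact hvM (by simpa [mul_assoc] using h3)
  obtain ⟨u, hu, hu1, v, hv, hv1, hne⟩ := hclass
  have hc : IsConj u v := (isConj_iff.2 ⟨g, rfl⟩).trans
    (H26.isConj_of_odd (hexp v hv) (hsq u hu g) (hodd v hv hv1 _ (hsq u hu g) (houtside u hu hu1))).symm
  obtain ⟨x, hx⟩ := isConj_iff.1 hc
  obtain ⟨n, hn, hnu⟩ := hctl u hu x (hx ▸ hv)
  exact hne n hn (hnu.trans hx)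

/-- The normal 2-complement of `C(u)`. -/
theorem hasNormalComplement_centralizer (P : Sylow 2 X) (hab : IsMulCommutative (P : Subgroup X))
    (hfree : ∀ u ∈ (P : Subgroup X), u ≠ 1 → ∀ n ∈ normalizer (P : Set X), n * u * n⁻¹ = u →
      n ∈ centralizer (P : Set X))
    {u : X} (hu : u ∈ (P : Subgroup X)) (hu1 : u ≠ 1) :
    (P : Subgroup X) ≤ centralizer ({u} : Set X) ∧
    Cfsg.HasNormalPComplement 2 ↥(centralizer ({u} : Set X)) := by
  haveI : Fact (Nat.Prime 2) := ⟨Nat.prime_two⟩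
  have hPC : (P : Subgroup X) ≤ centralizer ({u} : Set X) := fun x hx =>
    mem_centralizer_singleton_iff.2
      (congrArg Subtype.val (hab.is_comm.comm (⟨x, hx⟩ : (P : Subgroup X)) ⟨u, hu⟩))
  refine ⟨hPC, Fusion.hasNormalPComplement_of_normalizer_le_centralizer (P.subtype hPC) ?_⟩
  intro c hc
  have hcN : (c : X) ∈ normalizer (P : Set X) := by
    show (c : X) ∈ normalizer ((P : Subgroup X) : Set X)
    have hc : c ∈ normalizer (((P.subtype hPC : Sylow 2 ↥(centralizer ({u} : Set X))) :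
      Subgroup ↥(centralizer ({u} : Set X))) : Set ↥(centralizer ({u} : Set X))) := hc
    rw [mem_normalizer_iff] at hc ⊢
    intro y
    constructor
    · intro hy
      exact (hc ⟨y, hPC hy⟩).1 hy
    · intro hy
      have hyC : y ∈ centralizer ({u} : Set X) := by
        have := mul_mem (mul_mem (inv_mem c.2) (hPC hy)) c.2
        simpa [mul_assoc] using this
      exact (hc ⟨y, hyC⟩).2 hy
  have hfix : (c : X) * u * (c : X)⁻¹ = u :=
    mul_inv_eq_iff_eq_mul.2 (mem_centralizer_singleton_iff.1 c.2)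
  have h := hfree u hu hu1 c hcN hfix
  rw [mem_centralizer_iff] at h ⊢
  intro y hy
  exact Subtype.ext (h y hy)

/-- `O(X) P` is normal when `P` has rank at least three and fixed-point-free, non-transitive
automizer. -/
theorem sup_sylow_normal_of_abelian (P : Sylow 2 X) (hab : IsMulCommutative (P : Subgroup X))
    (hexp : ∀ p ∈ (P : Subgroup X), p * p = 1) (h8 : 2 ^ 3 ≤ Nat.card (P : Subgroup X))
    (hfree : ∀ u ∈ (P : Subgroup X), u ≠ 1 → ∀ n ∈ normalizer (P : Set X), n * u * n⁻¹ = u →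
      n ∈ centralizer (P : Set X))
    (hclass : ∃ u ∈ (P : Subgroup X), u ≠ 1 ∧ ∃ v ∈ (P : Subgroup X), v ≠ 1 ∧
      ∀ n ∈ normalizer (P : Set X), n * u * n⁻¹ ≠ v) :
    (Cfsg.oddCore X ⊔ (P : Subgroup X)).Normal := by
  haveI : Fact (Nat.Prime 2) := ⟨Nat.prime_two⟩
  set θ : X → Subgroup X := fun a => (Cfsg.pResidual 2 ↥(centralizer ({a} : Set X))).map
    (centralizer ({a} : Set X)).subtype with hθ
  have hodd : ∀ a ∈ (P : Subgroup X), a ≠ 1 → ¬ 2 ∣ Nat.card (θ a) := by
    intro a ha ha1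
    rw [hθ, Subgroup.card_map_of_injective (centralizer ({a} : Set X)).subtype_injective]
    exact Fusion.hasNormalPComplement_iff_pResidual.1
      (hasNormalComplement_centralizer P hab hfree ha ha1).2
  have hmem : ∀ a ∈ (P : Subgroup X), a ≠ 1 → ∀ x, x ∈ θ a ↔
      x ∈ centralizer ({a} : Set X) ∧ Nat.Coprime (orderOf x) 2 := by
    intro a ha ha1 x
    have hcompl := (hasNormalComplement_centralizer P hab hfree ha ha1).2
    have hiff : ∀ y : centralizer ({a} : Set X),
        y ∈ Cfsg.pResidual 2 ↥(centralizer ({a} : Set X)) ↔ Nat.Coprime (orderOf y) 2 := fun y =>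
      Fusion.mem_iff_coprime_orderOf (Fusion.hasNormalPComplement_iff_pResidual.1 hcompl)
        Fusion.isPGroup_quotient_pResidual
    constructor
    · rintro ⟨y, hy, rfl⟩
      exact ⟨y.2, by rw [coe_subtype, Subgroup.orderOf_coe]; exact (hiff y).1 hy⟩
    · rintro ⟨hx, ho⟩
      exact ⟨⟨x, hx⟩, (hiff _).2 (by rwa [Subgroup.orderOf_mk]), rfl⟩
  have hconj : ∀ a ∈ (P : Subgroup X), a ≠ 1 → ∀ n : X, n * a * n⁻¹ ∈ (P : Subgroup X) →
      ∀ x ∈ θ a, n * x * n⁻¹ ∈ θ (n * a * n⁻¹) := by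
    intro a ha ha1 n hn x hx
    obtain ⟨hxc, hxo⟩ := (hmem a ha ha1 x).1 hx
    refine (hmem _ hn (fun h => ha1 (conj_eq_one_iff.1 h)) _).2 ⟨?_, by rwa [H26.orderOf_conj_eq]⟩
    rw [mem_centralizer_singleton_iff] at hxc ⊢
    calc n * x * n⁻¹ * (n * a * n⁻¹) = n * (x * a) * n⁻¹ := by group
      _ = n * (a * x) * n⁻¹ := by rw [hxc]
      _ = n * a * n⁻¹ * (n * x * n⁻¹) := by group
  have hcomm : ∀ a ∈ (P : Subgroup X), ∀ b ∈ (P : Subgroup X), a * b = b * a := fun a ha b hb =>
    congrArg Subtype.val (hab.is_comm.comm (⟨a, ha⟩ : (P : Subgroup X)) ⟨b, hb⟩)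
  obtain ⟨hWodd, hW⟩ := S0217.result (p := 2) (P : Subgroup X) hcomm
    (fun a ha => by rw [pow_two]; exact hexp a ha) h8 θ
    (fun a ha ha1 => fun x hx => ((hmem a ha ha1 x).1 hx).1) hodd
    (fun a ha ha1 b hb x hx => by
      have h := hconj a ha ha1 b
        (by rw [hcomm b hb a ha, mul_inv_cancel_right]; exact ha) x hx
      rwa [hcomm b hb a ha, mul_inv_cancel_right] at h)
    (fun a ha ha1 => S0205.result (Nat.not_even_iff_odd.1 fun h =>
      hodd a ha ha1 (even_iff_two_dvd.1 h)))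
    (fun a ha ha1 b hb hb1 x hx => (hmem b hb hb1 x).2 ⟨hx.2, ((hmem a ha ha1 x).1 hx.1).2⟩)
  set W := ⨆ a : {a : X // a ∈ (P : Subgroup X) ∧ a ≠ 1}, θ a with hWdef
  have hle : ∀ a ∈ (P : Subgroup X), a ≠ 1 → θ a ≤ W := fun a ha ha1 =>
    le_iSup (fun a : {a : X // a ∈ (P : Subgroup X) ∧ a ≠ 1} => θ a) ⟨a, ha, ha1⟩
  have hNW : normalizer (P : Set X) ≤ normalizer (W : Set X) := by
    have key : ∀ n ∈ normalizer (P : Set X), W.map (MulAut.conj n).toMonoidHom ≤ W := by
      intro n hn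
      rw [hWdef, Subgroup.map_iSup]
      refine iSup_le fun a => ?_
      rintro _ ⟨x, hx, rfl⟩
      have hna : n * (a : X) * n⁻¹ ∈ (P : Subgroup X) := (mem_normalizer_iff.1 hn _).1 a.2.1
      exact hle _ hna (fun h => a.2.2 (conj_eq_one_iff.1 h)) (hconj a a.2.1 a.2.2 n hna x hx)
    intro n hn
    refine mem_normalizer_iff.2 fun x => ⟨fun hx => key n hn ⟨x, hx, rfl⟩, fun hx => ?_⟩
    have h := key n⁻¹ (inv_mem hn) ⟨_, hx, rfl⟩
    simpa [mul_assoc] using h
  -- elements of `C(u)` are products of an element of `θ u` and one of `P`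
  have hdec : ∀ a ∈ (P : Subgroup X), a ≠ 1 → centralizer ({a} : Set X) ≤ θ a ⊔ (P : Subgroup X) := by
    intro a ha ha1 c hc
    obtain ⟨hPC, hcompl⟩ := hasNormalComplement_centralizer P hab hfree ha ha1
    have h := (Fusion.isComplement'_pResidual hcompl (P.subtype hPC)).sup_eq_top
    have h2 : (⟨c, hc⟩ : centralizer ({a} : Set X)) ∈
        Cfsg.pResidual 2 ↥(centralizer ({a} : Set X)) ⊔ (P.subtype hPC : Subgroup _) := by
      rw [h]; exact mem_top _
    have h3 := mem_map_of_mem (centralizer ({a} : Set X)).subtype h2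
    rw [Subgroup.map_sup] at h3
    refine (sup_le_sup le_rfl ?_ : (_ : Subgroup X) ≤ _) h3
    rintro _ ⟨y, hy, rfl⟩
    exact hy
  have htop : normalizer (W : Set X) = ⊤ := eq_top_of_centralizers_le P hab hexp hNW
    (fun a ha ha1 => (hdec a ha ha1).trans
      (sup_le ((hle a ha ha1).trans le_normalizer) (le_normalizer.trans hNW))) hclass
  haveI : W.Normal := normalizer_eq_top_iff.1 htop
  have hWO : W ≤ Cfsg.oddCore X :=
    Cores.le_oddCore (Nat.not_even_iff_odd.1 fun h => hWodd (even_iff_two_dvd.1 h))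
  have htop2 : Cfsg.oddCore X ⊔ normalizer (P : Set X) = ⊤ :=
    eq_top_of_centralizers_le P hab hexp le_sup_right
      (fun a ha ha1 => (hdec a ha ha1).trans
        (sup_le_sup ((hle a ha ha1).trans hWO) le_normalizer)) hclass
  refine normalizer_eq_top_iff.1 (top_le_iff.1 (htop2 ▸ sup_le ?_ ?_))
  · exact le_trans le_sup_left le_normalizer
  · refine le_trans (le_inf ?_ le_rfl) (Components.inf_normalizer_le_normalizer_sup _ _)
    rw [normalizer_eq_top_iff.2 inferInstance]
    exact le_top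

end Cfsg.Agent.H27.U34
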