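import Cfsg.Agent.H27.U34.Abelian
import Cfsg.Agent.H53.U34.Defs
import Mathlib.GroupTheory.SchurZassenhaus

/-!
# Groups with a Sylow 2-subgroup of U3(4) shape whose centre is central
-/

set_option autoImplicit false
set_option linter.unusedSectionVars false
set_option linter.style.haveILetI false

namespace Cfsg.Agent.H27.U34

open Subgroup Cfsg.Agent Cfsg.Agent.H53.U34

universe u

/-- Two elements outside the centre with different squares. -/
theorem exists_sq_ne {P : Type*} [Group P] [Finite P] (hS : Shape P) :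
    ∃ x y : P, x ∉ center P ∧ y ∉ center P ∧ x * x ≠ y * y := by
  obtain ⟨x, hx⟩ : ∃ x : P, x ∉ center P := by
    by_contra! h
    have h1 : center P = ⊤ := (eq_top_iff' _).2 h
    have := hS.card_center
    rw [h1, Subgroup.card_top, hS.card] at this
    omega
  set s := x * x with hs
  obtain ⟨z, hz, hz1, hzs⟩ : ∃ z ∈ center P, z ≠ 1 ∧ z ≠ s := by
    by_contra! h
    have hsub : (center P : Set P) ⊆ {1, s} := fun z hz => by
      by_cases hz1 : z = 1
      · exact Or.inl hz1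
      · exact Or.inr (h z hz hz1)
    have h4 := Nat.card_mono (Set.toFinite ({1, s} : Set P)) hsub
    have h2 : Nat.card ↥({1, s} : Set P) ≤ 2 := by
      rw [Nat.card_coe_set_eq]
      exact (Set.ncard_insert_le _ _).trans (by simp)
    have := hS.card_center
    change Nat.card ↥(center P : Set P) = 4 at this
    omega
  obtain ⟨y, hy⟩ := hS.commutator x hx z hz
  have hyc : y ∉ center P := fun h => hz1 (by
    rw [← hy, mem_center_iff.1 h x]
    group)
  by_contra! hall
  have hxy : x * y ∉ center P := fun h => hz1 (by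
    have h1 : x * y * x = x * (x * y) := (mem_center_iff.1 h x).symm
    have h2 : y * x = x * y := mul_left_cancel ((mul_assoc x y x).symm.trans h1)
    rw [← hy, ← h2]; group)
  have h1 : y * y = s := (hall x y hx hyc).symm
  have h2 : x * y * (x * y) = s := (hall x (x * y) hx hxy).symm
  have hsc := hS.sq_mem x
  rw [← hs] at hsc
  have hs2 : s * s = 1 := (hS.sq_eq_one s).2 hsc
  have hinv : ∀ w : P, w * w = s → w⁻¹ = w * s := fun w hw => by
    refine inv_eq_of_mul_eq_one_right ?_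
    rw [← mul_assoc, hw, hs2]
  apply hzs
  calc z = x * y * x⁻¹ * y⁻¹ := hy.symm
    _ = x * y * (x * s) * (y * s) := by rw [hinv x rfl, hinv y h1]
    _ = x * y * (x * y) * (s * s) := by
        rw [show x * y * (x * s) * (y * s) = x * y * x * (s * y) * s by group,
          ← mem_center_iff.1 hsc y]
        group
    _ = s := by rw [h2, hs2, mul_one]

variable {H : Type u} [Group H] [Finite H]

/-- A 2-element normalising a Sylow 2-subgroup lies in it. -/
theorem mem_sylow_of_normalizer (T : Sylow 2 H) {g : H} (hg : g ∈ normalizer (T : Set H)) {k : ℕ}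
    (h2 : g ^ 2 ^ k = 1) : g ∈ (T : Subgroup H) := by
  haveI : Fact (Nat.Prime 2) := ⟨Nat.prime_two⟩
  have hp : IsPGroup 2 (zpowers g) := by
    rintro ⟨y, hy⟩
    obtain ⟨i, rfl⟩ := mem_zpowers_iff.1 hy
    refine ⟨k, Subtype.ext ?_⟩
    show (g ^ i) ^ 2 ^ k = 1
    rw [← zpow_natCast, ← zpow_mul, mul_comm, zpow_mul, zpow_natCast, h2, one_zpow]
  have h := IsPGroup.inf_normalizer_sylow hp T
  have hmem : g ∈ zpowers g ⊓ normalizer (T : Set H) := ⟨mem_zpowers g, hg⟩
  rw [h] at hmem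
  exact hmem.2

/-- When the centre of a Sylow 2-subgroup of U3(4) shape is central, `O(H) T` is normal. -/
theorem sup_sylow_normal (T : Sylow 2 H) (hT : Shape (T : Subgroup H))
    (hZ : ∀ z : ↥(T : Subgroup H), z ∈ center ↥(T : Subgroup H) → (z : H) ∈ center H) :
    (Cfsg.oddCore H ⊔ (T : Subgroup H)).Normal := by
  haveI : Fact (Nat.Prime 2) := ⟨Nat.prime_two⟩
  set Zc := (center ↥(T : Subgroup H)).map (T : Subgroup H).subtype with hZc
  have hZcc : Zc ≤ center H := by
    rintro _ ⟨z, hz, rfl⟩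
    exact hZ z hz
  have hZcT : Zc ≤ (T : Subgroup H) := map_subtype_le _
  haveI : Zc.Normal := ⟨fun z hz g => by
    rw [mem_center_iff.1 (hZcc hz) g, mul_inv_cancel_right]; exact hz⟩
  have hmemZ : ∀ x : ↥(T : Subgroup H), (x : H) ∈ Zc ↔ x ∈ center ↥(T : Subgroup H) := fun x =>
    ⟨fun ⟨y, hy, he⟩ => Subtype.ext he ▸ hy, fun h => ⟨x, h, rfl⟩⟩
  have hcardZ : Nat.card Zc = 4 := by
    rw [hZc, Subgroup.card_map_of_injective (T : Subgroup H).subtype_injective, hT.card_center]
  set π := QuotientGroup.mk' Zc with hπ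
  have hsurj : Function.Surjective π := QuotientGroup.mk'_surjective _
  set P := T.mapSurjective hsurj with hP
  have hPeq : (P : Subgroup (H ⧸ Zc)) = (T : Subgroup H).map π := rfl
  have hker : π.ker = Zc := QuotientGroup.ker_mk' _
  have hmemP : ∀ x : H, π x ∈ (P : Subgroup (H ⧸ Zc)) ↔ x ∈ (T : Subgroup H) := by
    intro x
    rw [hPeq, ← mem_comap, comap_map_eq_self (hker.le.trans hZcT)]
  have heq : ∀ x y : H, π x = π y → x⁻¹ * y ∈ Zc := fun x y h => QuotientGroup.eq.1 h
  have hexp : ∀ p ∈ (P : Subgroup (H ⧸ Zc)), p * p = 1 := by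
    intro p hp
    obtain ⟨x, rfl⟩ := hsurj p
    rw [← map_mul, ← MonoidHom.mem_ker, hker]
    exact (hmemZ (⟨x, (hmemP x).1 hp⟩ * ⟨x, (hmemP x).1 hp⟩)).2 (hT.sq_mem _)
  have hab : IsMulCommutative (P : Subgroup (H ⧸ Zc)) := by
    refine ⟨⟨fun a b => Subtype.ext ?_⟩⟩
    show (a : H ⧸ Zc) * b = b * a
    have hi : ∀ p ∈ (P : Subgroup (H ⧸ Zc)), p⁻¹ = p := fun p hp =>
      inv_eq_of_mul_eq_one_right (hexp p hp)
    calc (a : H ⧸ Zc) * b = ((a : H ⧸ Zc) * b)⁻¹ := (hi _ (mul_mem a.2 b.2)).symm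
      _ = b * a := by rw [mul_inv_rev, hi _ a.2, hi _ b.2]
  have hcard : Nat.card (P : Subgroup (H ⧸ Zc)) = 16 := by
    have h1 := relIndex_mul_relIndex ⊥ Zc (T : Subgroup H) bot_le hZcT
    rw [relIndex_bot_left, relIndex_bot_left, hcardZ, hT.card] at h1
    have h2 : π.ker.relIndex (T : Subgroup H) = Nat.card ((T : Subgroup H).map π) := relIndex_ker _ _
    rw [hker] at h2
    rw [hPeq, ← h2]
    omega
  have hlift : ∀ g : H, π g ∈ normalizer (P : Set (H ⧸ Zc)) → g ∈ normalizer (T : Set H) := by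
    intro g hg
    show g ∈ normalizer ((T : Subgroup H) : Set H)
    have hg : π g ∈ normalizer ((P : Subgroup (H ⧸ Zc)) : Set (H ⧸ Zc)) := hg
    rw [mem_normalizer_iff] at hg ⊢
    intro x
    rw [← hmemP x, ← hmemP (g * x * g⁻¹), map_mul, map_mul, map_inv]
    exact hg (π x)
  have hfree : ∀ u ∈ (P : Subgroup (H ⧸ Zc)), u ≠ 1 → ∀ n ∈ normalizer (P : Set (H ⧸ Zc)),
      n * u * n⁻¹ = u → n ∈ centralizer (P : Set (H ⧸ Zc)) := by
    intro u hu hu1 n hn hfix
    obtain ⟨x, rfl⟩ := hsurj u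
    obtain ⟨g, rfl⟩ := hsurj n
    have hxT := (hmemP x).1 hu
    have hxc : (⟨x, hxT⟩ : ↥(T : Subgroup H)) ∉ center ↥(T : Subgroup H) := fun h => hu1 (by
      rw [← MonoidHom.mem_ker, hker]
      exact (hmemZ ⟨x, hxT⟩).2 h)
    have hgN := hlift g hn
    obtain ⟨k, m, hm, hgm⟩ := Nat.exists_eq_two_pow_mul_odd (orderOf_pos g).ne'
    -- the part of odd order centralises `T`
    have h1 : ∀ t ∈ (T : Subgroup H), g ^ 2 ^ k * t = t * g ^ 2 ^ k := by
      have hN' : g ^ 2 ^ k ∈ normalizer ((T : Subgroup H) : Set H) := pow_mem hgN _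
      set φ : MulAut ↥(T : Subgroup H) := normalizerMonoidHom (H := (T : Subgroup H))
        (⟨g ^ 2 ^ k, hN'⟩ : ↥(normalizer ((T : Subgroup H) : Set H))) with hφ
      have hφv : ∀ t : ↥(T : Subgroup H), (φ t : H) = g ^ 2 ^ k * t * (g ^ 2 ^ k)⁻¹ := fun t => rfl
      have hodd : Odd (orderOf φ) := by
        refine Odd.of_dvd_nat hm ((orderOf_map_dvd _ _).trans ?_)
        rw [Subgroup.orderOf_mk]
        refine orderOf_dvd_of_pow_eq_one ?_
        rw [← pow_mul, ← hgm, pow_orderOf_eq_one]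
      have hfixc : ∀ z ∈ center ↥(T : Subgroup H), φ z = z := fun z hz => Subtype.ext (by
        rw [hφv, mem_center_iff.1 (hZ z hz), mul_inv_cancel_right])
      rcases hT.aut φ hodd hfixc with h | ⟨-, h⟩
      · intro t ht
        have := congrArg (fun f : MulAut ↥(T : Subgroup H) => (f ⟨t, ht⟩ : H)) h
        rw [hφv] at this
        exact mul_inv_eq_iff_eq_mul.1 this
      · refine absurd (h ⟨x, hxT⟩ ((hmemZ _).1 ?_)) hxc
        rw [Subgroup.coe_mul, Subgroup.coe_inv, hφv, ← hker, MonoidHom.mem_ker, map_mul, map_mul,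
          map_mul, map_inv, map_inv, map_pow]
        have hp : π g ^ 2 ^ k ∈ centralizer ({π x} : Set (H ⧸ Zc)) :=
          pow_mem (mem_centralizer_singleton_iff.2 (mul_inv_eq_iff_eq_mul.1 hfix)) _
        rw [mem_centralizer_singleton_iff.1 hp]
        group
    have h2 : g ^ m ∈ (T : Subgroup H) := mem_sylow_of_normalizer T (pow_mem hgN _) (k := k) (by
      rw [← pow_mul, mul_comm, ← hgm, pow_orderOf_eq_one])
    have hc1 : π g ^ 2 ^ k ∈ centralizer ((P : Subgroup (H ⧸ Zc)) : Set (H ⧸ Zc)) := by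
      rw [mem_centralizer_iff]
      intro p hp
      obtain ⟨t, rfl⟩ := hsurj p
      rw [← map_pow, ← map_mul, ← map_mul, h1 t ((hmemP t).1 hp)]
    have hc2 : π g ^ m ∈ centralizer ((P : Subgroup (H ⧸ Zc)) : Set (H ⧸ Zc)) := by
      rw [← map_pow]
      exact (le_centralizer_iff_isMulCommutative.2 hab) ((hmemP _).2 h2)
    have hcop : (2 ^ k).Coprime m := hm.coprime_two_left.pow_left k
    have hbez : π g = (π g ^ 2 ^ k) ^ Nat.gcdA (2 ^ k) m * (π g ^ m) ^ Nat.gcdB (2 ^ k) m := by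
      rw [← zpow_natCast, ← zpow_natCast, ← zpow_mul, ← zpow_mul, ← zpow_add,
        ← Nat.gcd_eq_gcd_ab, hcop.gcd_eq_one, Nat.cast_one, zpow_one]
    show π g ∈ centralizer ((P : Subgroup (H ⧸ Zc)) : Set (H ⧸ Zc))
    rw [hbez]
    exact mul_mem (zpow_mem hc1 _) (zpow_mem hc2 _)
  have hclass : ∃ u ∈ (P : Subgroup (H ⧸ Zc)), u ≠ 1 ∧ ∃ v ∈ (P : Subgroup (H ⧸ Zc)), v ≠ 1 ∧
      ∀ n ∈ normalizer (P : Set (H ⧸ Zc)), n * u * n⁻¹ ≠ v := by
    obtain ⟨x, y, hx, hy, hne⟩ := exists_sq_ne hT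
    have hne1 : ∀ w : ↥(T : Subgroup H), w ∉ center ↥(T : Subgroup H) → π (w : H) ≠ 1 :=
      fun w hw h => hw ((hmemZ w).1 (hker ▸ MonoidHom.mem_ker.2 h))
    refine ⟨π x, (hmemP _).2 x.2, hne1 x hx, π y, (hmemP _).2 y.2, hne1 y hy, fun n _ he => hne ?_⟩
    obtain ⟨g, rfl⟩ := hsurj n
    rw [← map_inv, ← map_mul, ← map_mul] at he
    obtain ⟨w, hw, hwe⟩ : ∃ w ∈ center H, g * (x : H) * g⁻¹ = y * w := by
      have h := hZcc (heq _ _ he.symm)
      exact ⟨_, h, by group⟩
    have hw2 : w * w = 1 := by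
      have h := heq _ _ he.symm
      have hwz : (y : H)⁻¹ * (g * (x : H) * g⁻¹) = w := by rw [hwe]; group
      rw [hwz] at h
      obtain ⟨z, hz, rfl⟩ := h
      exact congrArg Subtype.val ((hT.sq_eq_one z).2 hz)
    have hxx : ((x * x : ↥(T : Subgroup H)) : H) ∈ center H := hZ _ (hT.sq_mem x)
    apply Subtype.ext
    calc ((x * x : ↥(T : Subgroup H)) : H) = g * ((x * x : ↥(T : Subgroup H)) : H) * g⁻¹ := by
          rw [mem_center_iff.1 hxx g, mul_inv_cancel_right]
      _ = (g * x * g⁻¹) * (g * x * g⁻¹) := by rw [Subgroup.coe_mul]; group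
      _ = y * w * (y * w) := by rw [hwe]
      _ = y * y * (w * w) := by
          rw [mul_assoc, ← mul_assoc w, ← mem_center_iff.1 hw (y : H)]; group
      _ = _ := by rw [hw2, mul_one, Subgroup.coe_mul]
  have hnorm := sup_sylow_normal_of_abelian P hab hexp (by rw [hcard]; norm_num) hfree hclass
  -- the preimage of the odd core
  set Y := (Cfsg.oddCore (H ⧸ Zc)).comap π with hY
  have hZY : Zc ≤ Y := by rw [← hker]; exact comap_mono bot_le
  have hYle : Y ≤ Cfsg.oddCore H ⊔ (T : Subgroup H) := by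
    have hidx : (Zc.subgroupOf Y).index = Nat.card (Cfsg.oddCore (H ⧸ Zc)) := by
      show Zc.relIndex Y = _
      have h := relIndex_ker (f := π) Y
      rw [hker] at h
      rw [h, map_comap_eq_self_of_surjective hsurj]
    have hcop : (Nat.card (Zc.subgroupOf Y)).Coprime (Zc.subgroupOf Y).index := by
      rw [hidx, Nat.card_congr (subgroupOfEquivOfLe hZY).toEquiv, hcardZ]
      exact (Nat.coprime_two_left.2 Cores.odd_card_oddCore).pow_left 2
    obtain ⟨K, hK⟩ := exists_right_complement'_of_coprime hcop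
    have hKn : K.Normal := by
      refine normalizer_eq_top_iff.1 (top_le_iff.1 (hK.sup_eq_top ▸ sup_le ?_ le_normalizer))
      intro z hz
      rw [mem_normalizer_iff]
      intro k
      have : z * k * z⁻¹ = k := Subtype.ext (by
        simp only [Subgroup.coe_mul, Subgroup.coe_inv]
        have hc : (k : H) * (z : H) = (z : H) * (k : H) := mem_center_iff.1 (hZcc hz) (k : H)
        rw [← hc, mul_inv_cancel_right])
      rw [this]
    have hKodd : Odd (Nat.card K) := by
      rw [← hK.symm.index_eq_card, hidx]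
      exact Cores.odd_card_oddCore
    intro y hy
    have hy' : (⟨y, hy⟩ : Y) ∈ Zc.subgroupOf Y ⊔ K := by rw [hK.sup_eq_top]; exact mem_top _
    have h3 := mem_map_of_mem Y.subtype hy'
    rw [Subgroup.map_sup] at h3
    refine (sup_le (le_trans ?_ le_sup_right) (le_trans ?_ le_sup_left) :
      (_ : Subgroup H) ≤ Cfsg.oddCore H ⊔ (T : Subgroup H)) h3
    · exact (subgroupOf_map_subtype _ _).le.trans (inf_le_left.trans hZcT)
    · exact (Subgroup.map_mono (Cores.le_oddCore hKodd)).trans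
        (Cores.map_pPrimeCore_le_of_normal Y)
  have hmap : (Cfsg.oddCore H ⊔ (T : Subgroup H)).map π =
      Cfsg.oddCore (H ⧸ Zc) ⊔ (P : Subgroup (H ⧸ Zc)) := by
    rw [Subgroup.map_sup, ← hPeq]
    refine le_antisymm (sup_le_sup (Cores.pPrimeCore_map_le hsurj) le_rfl) (sup_le ?_ le_sup_right)
    calc Cfsg.oddCore (H ⧸ Zc) = Y.map π := (map_comap_eq_self_of_surjective hsurj _).symm
      _ ≤ (Cfsg.oddCore H ⊔ (T : Subgroup H)).map π := Subgroup.map_mono hYle
      _ = _ := by rw [Subgroup.map_sup, hPeq]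
  rw [← comap_map_eq_self (f := π) (H := Cfsg.oddCore H ⊔ (T : Subgroup H))
    (hker.le.trans (hZcT.trans le_sup_right)), hmap]
  exact hnorm.comap π

end Cfsg.Agent.H27.U34
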