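import Cfsg.Agent.H27.U34.Local

/-!
# The centralizer of an involution for a Sylow 2-subgroup of U3(4) shape
-/

set_option autoImplicit false
set_option linter.unusedSectionVars false
set_option linter.style.haveILetI false

namespace Cfsg.Agent.H27.U34

open Subgroup Cfsg.Agent Cfsg.Agent.H53.U34

universe u

variable {G : Type u} [Group G]

/-- The involutions `a`, `b`, `c` of the centre of `S`, cycled by `n` in `N(S)`. -/
structure Cycle (S : Sylow 2 G) where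
  a : G
  b : G
  c : G
  n : G
  ha : a ∈ zS S
  hb : b ∈ zS S
  hc : c ∈ zS S
  mem : ∀ z : G, z ∈ zS S ↔ z = 1 ∨ z = a ∨ z = b ∨ z = c
  oa : orderOf a = 2
  ob : orderOf b = 2
  oc : orderOf c = 2
  ab : a ≠ b
  ac : a ≠ c
  bc : b ≠ c
  mul : a * b = c
  hn : n ∈ normalizer ((S : Subgroup G) : Set G)
  na : n * a * n⁻¹ = b
  nb : n * b * n⁻¹ = c
  nc : n * c * n⁻¹ = a

variable [Finite G] {S : Sylow 2 G}

theorem nonempty_cycle [IsSimpleGroup G] (hS : Shape (S : Subgroup G)) : Nonempty (Cycle S) := by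
  obtain ⟨a, b, c, n, ha, hb, hc, hmem, oa, ob, oc, hab, hac, hbc, hmul, hn, hna, hnb, hnc⟩ :=
    exists_cycle hS
  exact ⟨⟨a, b, c, n, ha, hb, hc, hmem, oa, ob, oc, hab, hac, hbc, hmul, hn, hna, hnb, hnc⟩⟩

/-- In a coset of an odd order subgroup inverted by an involution, the involutions are conjugate. -/
theorem exists_conj {N : Subgroup G} {m b : G} (ho : Odd (orderOf m)) (hm : m ∈ N)
    (hb : b * b = 1) (hmb : m * b * (m * b) = 1) : ∃ x ∈ N, x * b * x⁻¹ = m * b := by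
  obtain ⟨j, hj⟩ := ho
  have hinv : b * m * b⁻¹ = m⁻¹ := by
    rw [inv_eq_of_mul_eq_one_right hb]
    refine eq_inv_of_mul_eq_one_right ?_
    rw [← mul_assoc, ← mul_assoc]
    simpa [mul_assoc] using hmb
  refine ⟨m ^ (j + 1), pow_mem hm _, ?_⟩
  have h1 : b * (m ^ (j + 1))⁻¹ * b⁻¹ = m ^ (j + 1) := by
    rw [← conj_inv, ← conj_pow, hinv, inv_pow, inv_inv]
  have h2 : m ^ (j + 1) * m ^ (j + 1) = m := by
    rw [← pow_add, show j + 1 + (j + 1) = orderOf m + 1 by omega, pow_succ, pow_orderOf_eq_one,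
      one_mul]
  calc m ^ (j + 1) * b * (m ^ (j + 1))⁻¹
      = m ^ (j + 1) * (b * (m ^ (j + 1))⁻¹ * b⁻¹) * b := by group
    _ = m * b := by rw [h1, h2]

variable (hS : Shape (S : Subgroup G)) (K : Cycle S)
include hS

theorem Cycle.mem_cZ {v : G} (h1 : Commute v K.a) (h2 : Commute v K.b) : v ∈ cZ S := by
  refine mem_centralizer_iff.2 fun z hz => ?_
  rcases (K.mem z).1 hz with rfl | rfl | rfl | rfl
  · rw [one_mul, mul_one]
  · exact h1.eq.symm
  · exact h2.eq.symm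
  · rw [← K.mul]
    exact (h1.mul_right h2).eq.symm

theorem Cycle.cZ_le_centralizer : cZ S ≤ centralizer ({K.a} : Set G) :=
  fun _ hv => mem_centralizer_singleton_iff.2 (mem_centralizer_iff.1 hv _ K.ha).symm

theorem Cycle.conj_eq_b {g : G} (hg : g * K.a * g⁻¹ = K.a)
    (hgb : g * K.b * g⁻¹ ∈ (S : Subgroup G))
    (hN : ∀ y : G, y * K.a * y⁻¹ = K.a → y * K.b * y⁻¹ ∈ zS S →
      ∃ x ∈ normalizer ((S : Subgroup G) : Set G), x * K.a * x⁻¹ = K.a ∧
        x * K.b * x⁻¹ = y * K.b * y⁻¹) :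
    g * K.b * g⁻¹ = K.b := by
  have hz : g * K.b * g⁻¹ ∈ zS S := (mem_zS hS).2 ⟨hgb, by
    rw [conj_mul, ((mem_zS hS).1 K.hb).2, mul_one, mul_inv_cancel]⟩
  rcases (K.mem _).1 hz with h | h | h | h
  · exact absurd (conj_eq_one_iff.1 h) (H26.ne_one_of_orderOf_two K.ob)
  · exact absurd (mul_left_cancel (mul_right_cancel (h.trans hg.symm))) K.ab.symm
  · exact h
  · exfalso
    obtain ⟨x, hx, hxa, hxb⟩ := hN g hg hz
    rw [h] at hxb
    refine no_swap hx K.hb K.hc K.bc hxb ?_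
    rw [← K.mul, show x * (K.a * K.b) * x⁻¹ = (x * K.a * x⁻¹) * (x * K.b * x⁻¹) by group, hxa,
      hxb, ← K.mul, ← mul_assoc, ((mem_zS hS).1 K.ha).2, one_mul]

/-- `C(a) = O(C(a)) C(Z)`. -/
theorem Cycle.centralizer_a {g : G} (hg : g ∈ centralizer ({K.a} : Set G)) :
    ∃ o ∈ coreOf (centralizer ({K.a} : Set G)), o⁻¹ * g ∈ cZ S := by
  haveI : Fact (Nat.Prime 2) := ⟨Nat.prime_two⟩
  set H := centralizer ({K.a} : Set G)
  have hSH : (S : Subgroup G) ≤ H := sylow_le_centralizer K.ha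
  have hbH : K.b ∈ H := hSH (zS_le S K.hb)
  have hfix : ∀ {y : G}, y ∈ H → y * K.a * y⁻¹ = K.a := fun {y} hy => by
    rw [mem_centralizer_singleton_iff.1 hy, mul_inv_cancel_right]
  set T := S.subtype hSH
  have hbT : (⟨K.b, hbH⟩ : ↥H) ∈ centralizer ((T : Subgroup ↥H) : Set ↥H) :=
    mem_centralizer_iff.2 fun s hs => Subtype.ext (zS_comm K.hb hs)
  have hiso : ∀ y : ↥H, y * ⟨K.b, hbH⟩ * y⁻¹ ∈ T → y * ⟨K.b, hbH⟩ * y⁻¹ = ⟨K.b, hbH⟩ := by
    intro y hy
    refine Subtype.ext (K.conj_eq_b hS (hfix y.2) hy fun w hwa hwb => ?_)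
    have hwH : w ∈ H := mem_centralizer_singleton_iff.2 (mul_inv_eq_iff_eq_mul.1 hwa)
    obtain ⟨x, hx, he⟩ := Fusion.burnside_fusion_centralizer T (g := ⟨w, hwH⟩) hbT
      (mem_centralizer_iff.2 fun s hs => Subtype.ext (zS_comm hwb hs))
    refine ⟨x, mem_normalizer_iff.2 fun s => ⟨fun hs => ?_, fun hs => ?_⟩, hfix x.2,
      congrArg Subtype.val he⟩
    · exact (mem_normalizer_iff.1 hx ⟨s, hSH hs⟩).1 hs
    · have hsH : s ∈ H := by
        have := mul_mem (mul_mem (inv_mem x.2) (hSH hs)) x.2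
        simpa [mul_assoc] using this
      exact (mem_normalizer_iff.1 hx ⟨s, hsH⟩).2 hs
  obtain ⟨N, hN, hodd, hcomm⟩ := S0215.result T ⟨K.b, hbH⟩
    (by rw [← K.ob, ← Subgroup.orderOf_coe]) (zS_le S K.hb) hiso
  haveI := hN
  set y : ↥H := ⟨g, hg⟩
  set v : ↥H := ⟨K.b, hbH⟩
  have hv : v * v = 1 := Subtype.ext ((mem_zS hS).1 K.hb).2
  have hm : y * v * y⁻¹ * v⁻¹ ∈ N := by
    have := N.inv_mem (hcomm y)
    simpa [mul_assoc] using this
  obtain ⟨x, hx, hxe⟩ := exists_conj (m := y * v * y⁻¹ * v⁻¹) (b := v) (odd_orderOf hodd hm) hm hv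
    (by
      rw [inv_mul_cancel_right, conj_mul, hv, mul_one, mul_inv_cancel])
  rw [inv_mul_cancel_right] at hxe
  refine ⟨x, ⟨x, Cores.le_oddCore hodd hx, rfl⟩, K.mem_cZ hS ?_ ?_⟩
  · exact mem_centralizer_singleton_iff.1 (mul_mem (inv_mem x.2) hg)
  · have h1 : (x⁻¹ * y) * v * (x⁻¹ * y)⁻¹ = v := by
      rw [show x⁻¹ * y * v * (x⁻¹ * y)⁻¹ = x⁻¹ * (y * v * y⁻¹) * x by group, ← hxe]
      group
    exact congrArg Subtype.val (mul_inv_eq_iff_eq_mul.1 h1)

theorem Cycle.coreOf_cZ_le :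
    coreOf (cZ S) ≤ coreOf (centralizer ({K.a} : Set G)) := by
  set H := centralizer ({K.a} : Set G)
  have hle : coreOf (cZ S) ≤ H := (coreOf_le _).trans (K.cZ_le_centralizer hS)
  have hn : H ≤ normalizer ((coreOf (cZ S) ⊔ coreOf H : Subgroup G) : Set G) := by
    intro g hg
    obtain ⟨o, ho, hog⟩ := K.centralizer_a hS hg
    have h1 : o⁻¹ * g ∈ normalizer ((coreOf (cZ S) ⊔ coreOf H : Subgroup G) : Set G) :=
      Components.inf_normalizer_le_normalizer_sup _ _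
        ⟨le_normalizer_coreOf _ hog, le_normalizer_coreOf H (K.cZ_le_centralizer hS hog)⟩
    have h2 := mul_mem (le_normalizer (le_sup_right (a := coreOf (cZ S)) ho)) h1
    rwa [mul_inv_cancel_left] at h2
  refine le_sup_left.trans (le_coreOf (sup_le hle (coreOf_le _)) hn ?_)
  exact odd_sup (hle.trans (le_normalizer_coreOf H)) (odd_coreOf _) (odd_coreOf _)

end Cfsg.Agent.H27.U34
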