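import Cfsg.Agent.H27.U34.Centralizer

/-!
# Existence of the configuration at an involution
-/

set_option autoImplicit false
set_option linter.unusedSectionVars false
set_option linter.style.haveILetI false

namespace Cfsg.Agent.H27.U34

open Subgroup Cfsg.Agent Cfsg.Agent.H53.U34

universe u

variable {G : Type u} [Group G] [Finite G] {S : Sylow 2 G}

theorem conj_mem_centralizer {n v : G} (hn : n ∈ normalizer ((S : Subgroup G) : Set G))
    (hv : v ∈ centralizer ((S : Subgroup G) : Set G)) :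
    n * v * n⁻¹ ∈ centralizer ((S : Subgroup G) : Set G) := by
  refine mem_centralizer_iff.2 fun x hx => ?_
  have h := mem_centralizer_iff.1 hv _ ((mem_normalizer_iff.1 (inv_mem hn) x).1 hx)
  calc x * (n * v * n⁻¹) = n * ((n⁻¹ * x * n⁻¹⁻¹) * v) * n⁻¹ := by group
    _ = n * (v * (n⁻¹ * x * n⁻¹⁻¹)) * n⁻¹ := by rw [h]
    _ = n * v * n⁻¹ * x := by group

theorem conj_mem_cZ (hS : Shape (S : Subgroup G)) {n v : G}
    (hn : n ∈ normalizer ((S : Subgroup G) : Set G)) (hv : v ∈ cZ S) : n * v * n⁻¹ ∈ cZ S := by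
  refine mem_centralizer_iff.2 fun x hx => ?_
  have h := mem_centralizer_iff.1 hv _ (conj_mem_zS (inv_mem hn) hS hx)
  calc x * (n * v * n⁻¹) = n * ((n⁻¹ * x * n⁻¹⁻¹) * v) * n⁻¹ := by group
    _ = n * (v * (n⁻¹ * x * n⁻¹⁻¹)) * n⁻¹ := by rw [h]
    _ = n * v * n⁻¹ * x := by group

theorem conj_mem_coreOf_cZ (hS : Shape (S : Subgroup G)) {n v : G}
    (hn : n ∈ normalizer ((S : Subgroup G) : Set G)) (hv : v ∈ coreOf (cZ S)) :
    n * v * n⁻¹ ∈ coreOf (cZ S) := by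
  refine (le_coreOf (A := (coreOf (cZ S)).map (MulAut.conj n).toMonoidHom) ?_ ?_ ?_)
    ⟨v, hv, rfl⟩
  · rintro _ ⟨w, hw, rfl⟩
    exact conj_mem_cZ hS hn (coreOf_le _ hw)
  · intro g hg
    have hg' : ∀ w ∈ coreOf (cZ S), ∀ y ∈ cZ S,
        y * (n * w * n⁻¹) * y⁻¹ ∈ (coreOf (cZ S)).map (MulAut.conj n).toMonoidHom := by
      intro w hw y hy
      refine ⟨n⁻¹ * y * n⁻¹⁻¹ * w * (n⁻¹ * y * n⁻¹⁻¹)⁻¹,
        (mem_normalizer_iff.1 (le_normalizer_coreOf _ (conj_mem_cZ hS (inv_mem hn) hy)) w).1 hw, ?_⟩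
      show n * (n⁻¹ * y * n⁻¹⁻¹ * w * (n⁻¹ * y * n⁻¹⁻¹)⁻¹) * n⁻¹ = _
      group
    refine mem_normalizer_iff.2 fun x => ⟨?_, fun hx => ?_⟩
    · rintro ⟨w, hw, rfl⟩
      exact hg' w hw g hg
    · obtain ⟨w, hw, he⟩ := hx
      have := hg' w hw g⁻¹ (inv_mem hg)
      rw [show n * w * n⁻¹ = g * x * g⁻¹ from he] at this
      simpa [mul_assoc] using this
  · rw [Subgroup.card_map_of_injective (MulAut.conj n).injective]
    exact odd_coreOf _

/-- The elements of an odd complement centralizing `S` lie in `O(C(Z))`. -/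
theorem inf_centralizer_le (hS : Shape (S : Subgroup G)) {L : Subgroup G}
    (hN : L ≤ normalizer ((S : Subgroup G) : Set G)) (hodd : Odd (Nat.card L))
    (hL : ∀ g ∈ normalizer ((S : Subgroup G) : Set G), ∃ l ∈ L, ∃ s ∈ (S : Subgroup G), g = l * s) :
    L ⊓ cZ S ⊓ centralizer ((S : Subgroup G) : Set G) ≤ coreOf (cZ S) := by
  set K := L ⊓ cZ S ⊓ centralizer ((S : Subgroup G) : Set G)
  have hKC : K ≤ cZ S := inf_le_left.trans inf_le_right
  have hKodd : Odd (Nat.card K) :=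
    hodd.of_dvd_nat (card_dvd_of_le (inf_le_left.trans inf_le_left))
  have mm : ∀ {A : Subgroup G} {x y : G}, x ∈ A → y ∈ A → x * y ∈ A := fun h h' => mul_mem h h'
  have mi : ∀ {A : Subgroup G} {x : G}, x ∈ A → x⁻¹ ∈ A := fun h => inv_mem h
  have hnD : cZ S ⊓ normalizer ((S : Subgroup G) : Set G) ≤ normalizer (K : Set G) := by
    have hconj : ∀ g ∈ cZ S ⊓ normalizer ((S : Subgroup G) : Set G), ∀ k ∈ K,
        g * k * g⁻¹ ∈ K := by
      rintro g ⟨hgC, hgN⟩ k ⟨⟨hkL, hkC⟩, hkS⟩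
      obtain ⟨l, hl, s, hs, rfl⟩ := hL g hgN
      have hlC : l ∈ cZ S := by
        have := mm (A := cZ S) hgC (mi (sylow_le_cZ S hs))
        rwa [mul_inv_cancel_right] at this
      rw [show l * s * k * (l * s)⁻¹ = l * (s * k * s⁻¹) * l⁻¹ by group,
        mem_centralizer_iff.1 hkS s hs, mul_inv_cancel_right]
      exact ⟨⟨mm (mm hl hkL) (mi hl), mm (mm hlC hkC) (mi hlC)⟩,
        conj_mem_centralizer (hN hl) hkS⟩
    intro g hg
    refine mem_normalizer_iff.2 fun x => ⟨hconj g hg x, fun hx => ?_⟩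
    have := hconj g⁻¹ (inv_mem hg) _ hx
    simpa [mul_assoc] using this
  have hn : cZ S ≤ normalizer ((K ⊔ coreOf (cZ S) : Subgroup G) : Set G) :=
    (cZ_le hS).trans (sup_le (le_sup_right.trans le_normalizer) fun g hg =>
      Components.inf_normalizer_le_normalizer_sup _ _ ⟨hnD hg, le_normalizer_coreOf _ hg.1⟩)
  exact le_sup_left.trans (le_coreOf (sup_le hKC (coreOf_le _)) hn
    (odd_sup (hKC.trans (le_normalizer_coreOf _)) hKodd (odd_coreOf _)))

/-- `ψ`: the action of `N(S)` on `S`. -/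
theorem normalizerMonoidHom_eq_one {x : ↥(normalizer ((S : Subgroup G) : Set G))} :
    (S : Subgroup G).normalizerMonoidHom x = 1 ↔
      (x : G) ∈ centralizer ((S : Subgroup G) : Set G) := by
  rw [← MonoidHom.mem_ker, normalizerMonoidHom_ker, mem_subgroupOf]

/-- An element of 3-power order normalising `⟨q⟩` modulo `C(S)` centralises it there. -/
theorem commutator_centralizes {q t : G} (hq : q ∈ normalizer ((S : Subgroup G) : Set G))
    (ht : t ∈ normalizer ((S : Subgroup G) : Set G)) {n e i : ℕ} (hn : n = 1 ∨ n = 5)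
    (hqn : q ^ n ∈ centralizer ((S : Subgroup G) : Set G))
    (hte : t ^ 3 ^ e = 1)
    (hi : (q ^ i)⁻¹ * (t * q * t⁻¹) ∈ centralizer ((S : Subgroup G) : Set G)) (j : ℤ) :
    (q ^ j)⁻¹ * (t * q ^ j * t⁻¹) ∈ centralizer ((S : Subgroup G) : Set G) := by
  set ψ := (S : Subgroup G).normalizerMonoidHom
  set x : ↥(normalizer ((S : Subgroup G) : Set G)) := ⟨q, hq⟩
  set y : ↥(normalizer ((S : Subgroup G) : Set G)) := ⟨t, ht⟩
  have h1 : ψ y * ψ x * (ψ y)⁻¹ = ψ x ^ i := by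
    have h := normalizerMonoidHom_eq_one.2 (show (((x ^ i)⁻¹ * (y * x * y⁻¹) :
      ↥(normalizer ((S : Subgroup G) : Set G))) : G) ∈ _ from hi)
    rw [map_mul, map_inv, map_pow, inv_mul_eq_one] at h
    rw [h]
    simp only [map_mul, map_inv]
    rfl
  have h5 : ψ x ^ n = 1 := by
    rw [← map_pow]; exact normalizerMonoidHom_eq_one.2 hqn
  have h2 : ∀ k : ℕ, ψ y ^ k * ψ x * (ψ y ^ k)⁻¹ = ψ x ^ i ^ k := by
    intro k
    induction k with
    | zero => simp
    | succ k ih =>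
      rw [pow_succ' (ψ y), show ψ y * ψ y ^ k * ψ x * (ψ y * ψ y ^ k)⁻¹ =
        ψ y * (ψ y ^ k * ψ x * (ψ y ^ k)⁻¹) * (ψ y)⁻¹ by group, ih, ← conj_pow, h1, ← pow_mul,
        pow_succ']
  have h3 : ψ x ^ i = ψ x := by
    rcases hn with rfl | rfl
    · rw [pow_one] at h5
      rw [h5, one_pow]
    have hy : ψ y ^ 3 ^ e = 1 := by
      rw [← map_pow]
      exact (congrArg ψ (Subtype.ext hte : y ^ 3 ^ e = 1)).trans (map_one ψ)
    have h4 := h2 (3 ^ e)
    rw [hy, inv_one, one_mul, mul_one] at h4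
    by_cases hx1 : ψ x = 1
    · rw [hx1, one_pow]
    haveI : Fact (Nat.Prime 5) := ⟨by norm_num⟩
    have ho : orderOf (ψ x) = 5 := orderOf_eq_prime h5 hx1
    have h6 : i ^ 3 ^ e ≡ 1 [MOD 5] := ho ▸ pow_eq_pow_iff_modEq.1 (by rw [pow_one]; exact h4.symm)
    have h7 : (i : ZMod 5) ^ 3 ^ e = 1 := by
      have := (ZMod.natCast_eq_natCast_iff _ _ _).2 h6
      simpa using this
    have hi0 : (i : ZMod 5) ≠ 0 := fun h => by
      rw [h, zero_pow (by positivity)] at h7; exact zero_ne_one h7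
    have h8 : orderOf (i : ZMod 5) = 1 := by
      refine Nat.eq_one_of_dvd_coprimes (a := 4) (b := 3 ^ e) ((by norm_num : Nat.Coprime 4 3).pow_right e)
        (orderOf_dvd_of_pow_eq_one ?_) (orderOf_dvd_of_pow_eq_one h7)
      exact ZMod.pow_card_sub_one_eq_one hi0
    have h9 : i ≡ 1 [MOD 5] := (ZMod.natCast_eq_natCast_iff _ _ _).1
      (by rw [Nat.cast_one]; exact orderOf_eq_one_iff.1 h8)
    calc ψ x ^ i = ψ x ^ 1 := pow_eq_pow_iff_modEq.2 (ho.symm ▸ h9)
      _ = ψ x := pow_one _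
  have h10 := normalizerMonoidHom_eq_one.1 (show ψ ((x ^ j)⁻¹ * (y * x ^ j * y⁻¹)) = 1 by
    simp only [map_mul, map_inv, map_zpow]
    rw [← conj_zpow, h1, h3, inv_mul_cancel])
  simpa using h10

variable [IsSimpleGroup G]

/-- The configuration at an involution. -/
theorem exists_cfg (S : Sylow 2 G) (hS : Shape (S : Subgroup G)) : Nonempty (Cfg G) := by
  haveI : Fact (Nat.Prime 2) := ⟨Nat.prime_two⟩
  have mm : ∀ {A : Subgroup G} {x y : G}, x ∈ A → y ∈ A → x * y ∈ A := fun h h' => mul_mem h h'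
  have mi : ∀ {A : Subgroup G} {x : G}, x ∈ A → x⁻¹ ∈ A := fun h => inv_mem h
  obtain ⟨K⟩ := nonempty_cycle hS
  obtain ⟨L, hLN, hLodd, hL⟩ := exists_complement S
  obtain ⟨q, hq, n, hn, hqn, hdvd, hgen, hfpf⟩ := exists_generator hS
    (inf_le_left.trans hLN : L ⊓ cZ S ≤ _) inf_le_right
    (hLodd.of_dvd_nat (card_dvd_of_le inf_le_left))
  have hqN : q ∈ normalizer ((S : Subgroup G) : Set G) := hLN hq.1
  have hnpos : 0 < n := by rcases hn with h | h <;> omega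
  set H := centralizer ({K.a} : Set G) with hH
  set O := coreOf H with hO
  have hSH : (S : Subgroup G) ≤ H := sylow_le_centralizer K.ha
  have hCH : cZ S ≤ H := K.cZ_le_centralizer hS
  have hDO : coreOf (cZ S) ≤ O := K.coreOf_cZ_le hS
  have hkerO : L ⊓ cZ S ⊓ centralizer ((S : Subgroup G) : Set G) ≤ O :=
    (inf_centralizer_le hS hLN hLodd hL).trans hDO
  have hqnO : q ^ n ∈ O := hkerO ⟨pow_mem hq n, hqn⟩
  have hOS : (O ⊓ (S : Subgroup G)) = ⊥ := (inf_comm _ _).trans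
    (Cores.disjoint_of_isPGroup_of_coprime S.isPGroup'
      (Nat.coprime_two_right.2 (odd_coreOf H)))
  have hcover : ∀ g ∈ H, ∃ o ∈ O, ∃ s ∈ (S : Subgroup G), ∃ i < n, g = o * s * q ^ i := by
    intro g hg
    obtain ⟨o, ho, hog⟩ := K.centralizer_a hS hg
    have h := cZ_le hS hog
    rw [← SetLike.mem_coe, coe_mul_of_right_le_normalizer_left _ _
      (inf_le_left.trans (le_normalizer_coreOf _))] at h
    obtain ⟨d, hd, m, ⟨hmC, hmN⟩, he⟩ := h
    obtain ⟨l, hl, s, hs, rfl⟩ := hL m hmN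
    have hlC : l ∈ cZ S := by
      have := mm (A := cZ S) hmC (mi (sylow_le_cZ S hs))
      rwa [mul_inv_cancel_right] at this
    obtain ⟨i, hi⟩ := hgen l ⟨hl, hlC⟩
    have hk : (q ^ n) ^ (i / n) * ((q ^ i)⁻¹ * l) ∈ L ⊓ cZ S ⊓ centralizer ((S : Subgroup G) : Set G) :=
      mm (pow_mem (⟨pow_mem hq n, hqn⟩ :
          q ^ n ∈ L ⊓ cZ S ⊓ centralizer ((S : Subgroup G) : Set G)) _)
        ⟨mm (A := L ⊓ cZ S) (mi (pow_mem hq i)) ⟨hl, hlC⟩, hi⟩
    set k := (q ^ n) ^ (i / n) * ((q ^ i)⁻¹ * l) with hkdef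
    have hl' : l = q ^ (i % n) * k := by
      rw [hkdef, ← mul_assoc, ← pow_mul, ← pow_add, Nat.mod_add_div, mul_inv_cancel_left]
    refine ⟨o * d * (q ^ (i % n) * k * (q ^ (i % n))⁻¹),
      mul_mem (mul_mem ho (hDO hd)) ((mem_normalizer_iff.1
        (le_normalizer_coreOf H (pow_mem (hCH hq.2) _)) k).1 (hkerO hk)),
      q ^ (i % n) * s * (q ^ (i % n))⁻¹,
      (mem_normalizer_iff.1 (pow_mem hqN _) s).1 hs, i % n, Nat.mod_lt _ hnpos, ?_⟩
    calc g = o * (o⁻¹ * g) := (mul_inv_cancel_left _ _).symm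
      _ = o * (d * (l * s)) := by rw [← he]
      _ = _ := by rw [hl']; group
  have hmemH : ∀ o ∈ O, ∀ s ∈ (S : Subgroup G), ∀ w ∈ zpowers q, o * s * w ∈ H :=
    fun o ho s hs w hw => mul_mem (mul_mem (coreOf_le H ho) (hSH hs))
      (hCH (zpowers_le.2 hq.2 hw))
  -- uniqueness of the decomposition
  have hstep : ∀ (o o' : G) (i j : ℕ) (s s' : G), o ∈ O → o' ∈ O → s ∈ (S : Subgroup G) →
      s' ∈ (S : Subgroup G) → i ≤ j → j < n → o * s * q ^ i = o' * s' * q ^ j →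
      i = j ∧ o = o' ∧ s = s' := by
    intro o o' i j s s' ho ho' hs hs' hij hj he
    have hsn : s'⁻¹ ∈ normalizer (O : Set G) := le_normalizer_coreOf H (hSH (inv_mem hs'))
    set w := q ^ (j - i) with hw
    have h1 : w = s'⁻¹ * (o'⁻¹ * o) * s'⁻¹⁻¹ * (s'⁻¹ * s) := by
      rw [← mul_left_cancel_iff (a := o' * s'), ← mul_right_cancel_iff (a := q ^ i)]
      rw [mul_assoc _ w, hw, ← pow_add, Nat.sub_add_cancel hij, ← he]
      group
    set o1 := s'⁻¹ * (o'⁻¹ * o) * s'⁻¹⁻¹ with ho1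
    have ho1O : o1 ∈ O := (mem_normalizer_iff.1 hsn _).1 (mul_mem (inv_mem ho') ho)
    set s1 := s'⁻¹ * s with hs1
    have hs1S : s1 ∈ (S : Subgroup G) := mul_mem (inv_mem hs') hs
    have hwL : w ∈ L ⊓ cZ S := pow_mem hq _
    have hone : s1 = 1 := by
      have hw' : w ∈ H := hCH hwL.2
      have hodd : Odd (Nat.card ↥(zpowers w ⊔ O)) := odd_sup
        (zpowers_le.2 (le_normalizer_coreOf H hw'))
        (hLodd.of_dvd_nat (card_dvd_of_le (zpowers_le.2 hwL.1))) (odd_coreOf H)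
      have hmem : s1 ∈ zpowers w ⊔ O := by
        have : s1 = o1⁻¹ * w := by rw [h1, inv_mul_cancel_left]
        rw [this]
        exact mul_mem (inv_mem (mem_sup_right ho1O)) (mem_sup_left (mem_zpowers w))
      have hbot := Cores.disjoint_of_isPGroup_of_coprime S.isPGroup' (Nat.coprime_two_right.2 hodd)
      rw [← mem_bot, ← hbot]
      exact ⟨hs1S, hmem⟩
    rw [hone, mul_one] at h1
    have hwC : w ∈ centralizer ((S : Subgroup G) : Set G) := by
      refine mem_centralizer_iff.2 fun x hx => ?_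
      have hxO : w * x * w⁻¹ * x⁻¹ ∈ O ⊓ (S : Subgroup G) := by
        refine ⟨?_, mm (A := (S : Subgroup G)) ((mem_normalizer_iff.1 (hLN hwL.1) x).1 hx) (mi hx)⟩
        rw [show w * x * w⁻¹ * x⁻¹ = w * (x * w⁻¹ * x⁻¹) by group]
        exact mul_mem (h1 ▸ ho1O) ((mem_normalizer_iff.1 (le_normalizer_coreOf H (hSH hx)) _).1
          (inv_mem (h1 ▸ ho1O)))
      rw [hOS, mem_bot, mul_inv_eq_one, mul_inv_eq_iff_eq_mul] at hxO
      exact hxO.symm
    have h0 : j - i = 0 := Nat.eq_zero_of_dvd_of_lt (hdvd _ hwC) (by omega)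
    have hij' : i = j := by omega
    have hss : s = s' := (inv_mul_eq_one.1 hone).symm
    subst hij'
    subst hss
    exact ⟨rfl, mul_right_cancel (mul_right_cancel he), rfl⟩
  have hcard : Nat.card H = Nat.card O * (64 * n) := by
    let f : ↥O × ↥(S : Subgroup G) × Fin n → ↥H := fun p =>
      ⟨p.1 * p.2.1 * q ^ (p.2.2 : ℕ), hmemH _ p.1.2 _ p.2.1.2 _ (pow_mem (mem_zpowers q) _)⟩
    have hf : Function.Bijective f := by
      refine ⟨?_, fun g => ?_⟩
      · rintro ⟨o, s, i⟩ ⟨o', s', j⟩ h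
        have h' := congrArg Subtype.val h
        rcases le_total (i : ℕ) (j : ℕ) with hij | hij
        · obtain ⟨h1, h2, h3⟩ := hstep _ _ _ _ _ _ o.2 o'.2 s.2 s'.2 hij j.2 h'
          exact Prod.ext (Subtype.ext h2) (Prod.ext (Subtype.ext h3) (Fin.ext h1))
        · obtain ⟨h1, h2, h3⟩ := hstep _ _ _ _ _ _ o'.2 o.2 s'.2 s.2 hij i.2 h'.symm
          exact Prod.ext (Subtype.ext h2.symm) (Prod.ext (Subtype.ext h3.symm) (Fin.ext h1.symm))
      · obtain ⟨o, ho, s, hs, i, hi, he⟩ := hcover g g.2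
        exact ⟨⟨⟨o, ho⟩, ⟨s, hs⟩, ⟨i, hi⟩⟩, Subtype.ext he.symm⟩
    rw [← Nat.card_congr (Equiv.ofBijective f hf), Nat.card_prod, Nat.card_prod, hS.card,
      Nat.card_eq_fintype_card (α := Fin n), Fintype.card_fin]
  -- the element cycling the involutions
  obtain ⟨l, hl, s, hs, hls⟩ := hL K.n K.hn
  have hact : ∀ z ∈ zS S, l * z * l⁻¹ = K.n * z * K.n⁻¹ := fun z hz => by
    rw [hls, show l * s * z * (l * s)⁻¹ = l * (s * z * s⁻¹) * l⁻¹ by group, zS_comm hz hs,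
      mul_inv_cancel_right]
  have hla : l * K.a * l⁻¹ = K.b := (hact _ K.ha).trans K.na
  have hlb : l * K.b * l⁻¹ = K.c := (hact _ K.hb).trans K.nb
  have hlc : l * K.c * l⁻¹ = K.a := (hact _ K.hc).trans K.nc
  obtain ⟨e, m, hm, hem⟩ := Nat.exists_eq_pow_mul_and_not_dvd (orderOf_pos l).ne' 3 (by norm_num)
  obtain ⟨r, hr⟩ : ∃ r, m * m = 3 * r + 1 := ⟨m * m / 3, by
    have h : m * m % 3 = 1 := by
      rw [Nat.mul_mod]
      have h1 : m % 3 = 1 ∨ m % 3 = 2 := by omega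
      rcases h1 with h | h <;> rw [h]
    omega⟩
  set t := l ^ (m * m) with ht
  have htL : t ∈ L := pow_mem hl _
  have htN : t ∈ normalizer ((S : Subgroup G) : Set G) := hLN htL
  have hte : t ^ 3 ^ e = 1 := by
    rw [ht, ← pow_mul, show m * m * 3 ^ e = orderOf l * m by rw [hem]; ring, pow_mul,
      pow_orderOf_eq_one, one_pow]
  have hl3 : ∀ z ∈ zS S, Commute (l ^ (3 * r)) z := by
    intro z hz
    rw [pow_mul]
    refine Commute.pow_left (mul_inv_eq_iff_eq_mul.1 ?_) r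
    rw [show l ^ 3 * z * (l ^ 3)⁻¹ = l * (l * (l * z * l⁻¹) * l⁻¹) * l⁻¹ by simp [pow_succ, mul_assoc]]
    rcases (K.mem z).1 hz with rfl | rfl | rfl | rfl
    · group
    · rw [hla, hlb, hlc]
    · rw [hlb, hlc, hla]
    · rw [hlc, hla, hlb]
  have htz : ∀ z ∈ zS S, t * z * t⁻¹ = l * z * l⁻¹ := fun z hz => by
    rw [ht, hr, pow_succ', show l * l ^ (3 * r) * z * (l * l ^ (3 * r))⁻¹ =
      l * (l ^ (3 * r) * z * (l ^ (3 * r))⁻¹) * l⁻¹ by group, (hl3 z hz).eq, mul_inv_cancel_right]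
  have hbal : ∀ v ∈ O, ∀ z : G, (z = K.b ∨ z = K.c) → Commute v z → v ∈ coreOf (cZ S) := by
    intro v hv z hz hvz
    have hva : Commute v K.a := mem_centralizer_singleton_iff.1 (coreOf_le H hv)
    have hvb : Commute v K.b := by
      rcases hz with rfl | rfl
      · exact hvz
      · have h := hva.mul_right hvz
        rwa [← K.mul, ← mul_assoc, ((mem_zS hS).1 K.ha).2, one_mul] at h
    refine le_coreOf (A := O ⊓ cZ S) inf_le_right ?_ ?_ ⟨hv, K.mem_cZ hS hva hvb⟩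
    · exact (le_inf (hCH.trans (le_normalizer_coreOf H)) le_normalizer).trans
        inf_normalizer_le_normalizer_inf
    · exact (odd_coreOf H).of_dvd_nat (card_dvd_of_le inf_le_left)
  exact ⟨{
    S := S
    shape := hS
    Z := zS S
    Z_eq := rfl
    a := K.a
    b := K.b
    c := K.c
    mem_Z := K.mem
    orderOf_a := K.oa
    orderOf_b := K.ob
    orderOf_c := K.oc
    ne_ab := K.ab
    mul_ab := K.mul
    isConj_a := fun i hi => isConj_of_cycle hS K.mem K.na K.nb hi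
    O := O
    O_eq := rfl
    O_odd := odd_coreOf H
    S_le := hSH
    n := n
    n_eq := hn
    Q := zpowers q
    Q_cyclic := ⟨q, rfl, hqnO⟩
    Q_odd := (hLodd.of_dvd_nat (card_dvd_of_le (zpowers_le.2 hq.1)))
    Q_central := zpowers_le.2 hq.2
    Q_normalizes := zpowers_le.2 hqN
    Q_fpf := fun w hw hwO => by
      have hwL : w ∈ L ⊓ cZ S := zpowers_le.2 hq hw
      exact hfpf w hwL fun h => hwO (hkerO ⟨hwL, h⟩)
    cover := fun g => ⟨fun hg => by
        obtain ⟨o, ho, s, hs, i, -, he⟩ := hcover g hg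
        exact ⟨o, ho, s, hs, q ^ i, pow_mem (mem_zpowers q) i, he⟩,
      fun ⟨o, ho, s, hs, w, hw, he⟩ => he ▸ hmemH o ho s hs w hw⟩
    card_centralizer := hcard
    t := t
    t_a := (htz _ K.ha).trans hla
    t_b := (htz _ K.hb).trans hlb
    t_c := (htz _ K.hc).trans hlc
    t_S := htN
    t_Q := fun w hw => by
      obtain ⟨j, rfl⟩ := mem_zpowers_iff.1 hw
      obtain ⟨i, hi⟩ := hgen (t * q * t⁻¹)
        ⟨mm (A := L) (mm htL hq.1) (mi htL), conj_mem_cZ hS htN hq.2⟩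
      have hj : q ^ j ∈ L ⊓ cZ S := zpow_mem hq j
      exact hkerO ⟨⟨mm (A := L) (mi hj.1) (mm (mm htL hj.1) (mi htL)),
        mm (A := cZ S) (mi hj.2) (conj_mem_cZ hS htN hj.2)⟩,
        commutator_centralizes hqN htN hn hqn hte hi j⟩
    balance_b := fun v hv hvb => by
      have := conj_mem_coreOf_cZ hS (inv_mem htN) (hbal v hv _ (Or.inl rfl) hvb)
      rw [inv_inv] at this
      exact hDO this
    balance_c := fun v hv hvc =>
      hDO (conj_mem_coreOf_cZ hS htN (hbal v hv _ (Or.inr rfl) hvc)) }⟩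

end Cfsg.Agent.H27.U34
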