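import Cfsg.Agent.H27.U34.Config
import Cfsg.Agent.S0222
import Cfsg.Agent.H35.JT.PSL
import Cfsg.Agent.H67.PrimeGraph34
import Cfsg.Agent.H33.SylU.Embed

/-!
# Trivial cores force `PSU₃(4)`
-/

set_option autoImplicit false
set_option linter.unusedSectionVars false
set_option linter.style.haveILetI false

namespace Cfsg.Agent.H27.U34

open Subgroup Cfsg.Agent Cfsg.Agent.H53.U34

universe u v

variable {G : Type u} [Group G] [Finite G]

/-- With a trivial core the centralizer of an involution of the centre normalises `S`. -/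
theorem centralizer_le_normalizer (K : Cfg G) (hO : K.O = ⊥) {z : G} (hz : z ∈ K.Z) (hz1 : z ≠ 1) :
    centralizer ({z} : Set G) ≤ normalizer (((K.S : Subgroup G)) : Set G) := by
  have ha : centralizer ({K.a} : Set G) ≤ normalizer ((K.S : Subgroup G) : Set G) := by
    intro g hg
    obtain ⟨o, ho, s, hs, q, hq, rfl⟩ := (K.cover g).1 hg
    rw [hO, mem_bot] at ho
    rw [ho, one_mul]
    exact mul_mem (le_normalizer hs) (K.Q_normalizes hq)
  have hstep : ∀ {x y : G}, K.t * x * K.t⁻¹ = y →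
      centralizer ({x} : Set G) ≤ normalizer ((K.S : Subgroup G) : Set G) →
      centralizer ({y} : Set G) ≤ normalizer ((K.S : Subgroup G) : Set G) := by
    intro x y hxy h g hg
    have hg' : K.t⁻¹ * g * K.t ∈ normalizer ((K.S : Subgroup G) : Set G) := by
      refine h (mem_centralizer_singleton_iff.2 ?_)
      have h1 := mem_centralizer_singleton_iff.1 hg
      rw [← hxy] at h1
      calc K.t⁻¹ * g * K.t * x = K.t⁻¹ * (g * (K.t * x * K.t⁻¹)) * K.t := by group
        _ = K.t⁻¹ * (K.t * x * K.t⁻¹ * g) * K.t := by rw [h1]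
        _ = x * (K.t⁻¹ * g * K.t) := by group
    have := mul_mem (mul_mem K.t_S hg') (inv_mem K.t_S)
    simpa [mul_assoc] using this
  rcases (K.mem_Z z).1 hz with rfl | rfl | rfl | rfl
  · exact absurd rfl hz1
  · exact ha
  · exact hstep K.t_a ha
  · exact hstep K.t_b (hstep K.t_a ha)

theorem three_dvd_card (K : Cfg G) : 3 ∣ Nat.card G := by
  by_contra h
  have h3 : ¬ 3 ∣ orderOf K.t := fun hd => h (hd.trans (orderOf_dvd_natCard _))
  have hcop : Nat.Coprime 3 (orderOf K.t) := (Nat.prime_three.coprime_iff_not_dvd).2 h3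
  obtain ⟨k, hk⟩ := exists_pow_eq_self_of_coprime hcop
  have hfix : Commute (K.t ^ 3) K.a := mul_inv_eq_iff_eq_mul.1 (by
    rw [show K.t ^ 3 * K.a * (K.t ^ 3)⁻¹ = K.t * (K.t * (K.t * K.a * K.t⁻¹) * K.t⁻¹) * K.t⁻¹ by
      simp [pow_succ, mul_assoc], K.t_a, K.t_b, K.t_c])
  have h1 : Commute K.t K.a := hk ▸ hfix.pow_left k
  exact K.ne_ab (by rw [← K.t_a, h1.eq, mul_inv_cancel_right])

variable [IsSimpleGroup G]

/-- `N(S)` is strongly embedded when the core is trivial. -/
theorem stronglyEmbedded (K : Cfg G) (hO : K.O = ⊥) :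
    Cfsg.IsStronglyEmbedded (normalizer ((K.S : Subgroup G) : Set G)) := by
  haveI : Fact (Nat.Prime 2) := ⟨Nat.prime_two⟩
  set M := normalizer ((K.S : Subgroup G) : Set G)
  have hS := K.shape
  refine ⟨fun h => ?_, ?_, fun g hg => ?_⟩
  · haveI : (K.S : Subgroup G).Normal := normalizer_eq_top_iff.1 h
    rcases (inferInstance : (K.S : Subgroup G).Normal).eq_bot_or_eq_top with h1 | h1
    · have := hS.card
      rw [h1, card_bot] at this
      omega
    · have hmem : ∀ x : G, x ∈ (K.S : Subgroup G) := fun x => h1 ▸ mem_top x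
      haveI : (center G).Normal := inferInstance
      have ha : K.a ∈ center G := mem_center_iff.2 fun x =>
        zS_comm (S := K.S) (by rw [zS, ← K.Z_eq]; exact (K.mem_Z _).2 (Or.inr (Or.inl rfl))) (hmem x)
      rcases (inferInstance : (center G).Normal).eq_bot_or_eq_top with h2 | h2
      · rw [h2, mem_bot] at ha
        exact H26.ne_one_of_orderOf_two K.orderOf_a ha
      · obtain ⟨x, y, hxy⟩ := not_comm hS
        exact hxy (mem_center_iff.1 (h2 ▸ mem_top y) x)
  · refine even_iff_two_dvd.2 (dvd_trans ?_ (card_dvd_of_le (le_normalizer (H := (K.S : Subgroup G)))))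
    rw [hS.card]; norm_num
  · rw [← Nat.not_even_iff_odd, even_iff_two_dvd]
    intro h
    obtain ⟨⟨i, hiM, w, hwM, hwi⟩, hi⟩ := exists_prime_orderOf_dvd_card' 2 h
    rw [← Subgroup.orderOf_coe] at hi
    change orderOf i = 2 at hi
    change g * w * g⁻¹ = i at hwi
    have hinv : ∀ {x : G}, x ∈ M → x * x = 1 → x ∈ zS K.S := fun {x} hx h2 =>
      (mem_zS hS).2 ⟨mem_sylow_of_normalizer K.S hx (k := 1) (by rw [pow_one, pow_two, h2]), h2⟩
    have hii := H26.mul_self_of_orderOf_two hi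
    have hiZ : i ∈ zS K.S := hinv hiM hii
    have hwZ : w ∈ zS K.S := hinv hwM (by
      rw [show w * w = g⁻¹ * ((g * w * g⁻¹) * (g * w * g⁻¹)) * g by group, hwi, hii, mul_one,
        inv_mul_cancel])
    obtain ⟨m, hm, hme⟩ := fusion (g := g) hwZ (by rw [hwi]; exact hiZ)
    have hgm : g * m⁻¹ ∈ M := by
      refine centralizer_le_normalizer K hO (z := i) (by rw [K.Z_eq]; exact hiZ)
        (H26.ne_one_of_orderOf_two hi) (mem_centralizer_singleton_iff.2 ?_)
      calc g * m⁻¹ * i = g * m⁻¹ * (m * w * m⁻¹) := by rw [hme, hwi]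
        _ = g * w * g⁻¹ * (g * m⁻¹) := by group
        _ = i * (g * m⁻¹) := by rw [hwi]
    have := mul_mem hgm hm
    rw [inv_mul_cancel_right] at this
    exact hg this

/-- If all cores are trivial then `G` is `PSU₃(4)`. -/
theorem iso_of_core_trivial (S : Sylow 2 G) (hS : Shape (S : Subgroup G))
    (hcore : ∀ K : Cfg G, K.O = ⊥) {F : Type v} [Field F] [Fintype F]
    (hF : Fintype.card F = 16) : Nonempty (G ≃* Cfsg.PSU 3 F 4) := by
  haveI : Fact (Nat.Prime 2) := ⟨Nat.prime_two⟩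
  obtain ⟨K⟩ := exists_cfg S hS
  have hfact : (Nat.card G).factorization 2 = 6 := by
    have h := S.card_eq_multiplicity
    rw [hS.card] at h
    exact (Nat.pow_right_injective le_rfl (show 2 ^ 6 = 2 ^ (Nat.card G).factorization 2 from h)).symm
  rcases S0222.result (not_comm hS) _ (stronglyEmbedded K (hcore K)) with
    ⟨F', _, _, _, hF', ⟨e⟩⟩ | ⟨-, m, -, hm⟩ | ⟨F', _, _, q, hF', hq, -, ⟨e⟩⟩
  · exfalso
    obtain ⟨x, hx⟩ : ∃ x : ↥(S : Subgroup G), x ∉ center ↥(S : Subgroup G) := by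
      obtain ⟨x, -, hx, -⟩ := exists_sq_ne hS
      exact ⟨x, hx⟩
    obtain ⟨P, hP⟩ := (S.isPGroup'.map e.toMonoidHom).exists_le_sylow
    have h1 := (H35.JT.psl_sylow_char_two (F := F') (by omega) P).1 (e (x : G))
      (hP ⟨(x : G), x.2, rfl⟩)
    rw [← map_mul, MulEquiv.map_eq_one_iff] at h1
    exact hx ((hS.sq_eq_one x).1 (Subtype.ext h1))
  · exfalso
    set q := 2 ^ (2 * m + 1) with hq
    have hq1 : 2 ≤ q := Nat.le_self_pow (by omega) 2
    have hodd : ¬ 2 ∣ (q ^ 2 + 1) * (q - 1) := by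
      have h2 : 2 ∣ q := dvd_pow_self 2 (by omega)
      rw [Nat.prime_two.dvd_mul]
      rintro (h | h)
      · exact absurd ((Nat.dvd_add_right (dvd_pow h2 two_ne_zero)).1 h) (by norm_num)
      · omega
    have hm' : (Nat.card G).factorization 2 = (2 * m + 1) * 2 := by
      have hq0 : q ^ 2 ≠ 0 := pow_ne_zero _ (by omega)
      have hr0 : (q ^ 2 + 1) * (q - 1) ≠ 0 := fun h => hodd (h ▸ dvd_zero 2)
      rw [hm, mul_assoc, Nat.factorization_mul hq0 hr0, Finsupp.add_apply,
        Nat.factorization_eq_zero_of_not_dvd hodd, add_zero,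
        hq, ← pow_mul, Nat.prime_two.factorization_pow, Finsupp.single_eq_same]
    have hm1 : m = 1 := by omega
    have h3 := three_dvd_card K
    rw [hm, hq, hm1] at h3
    norm_num at h3
  · obtain ⟨p, n, hp, hn, -, hpq⟩ := Unitary.exists_char_pow (F := F') hF'
    have hp2 : p = 2 := ((Nat.prime_dvd_prime_iff_eq Nat.prime_two hp).1
      (Nat.prime_two.dvd_of_dvd_pow (hpq ▸ even_iff_two_dvd.1 hq))).symm
    subst hp2
    subst hpq
    haveI : H33.SylU.QField F' n := ⟨hF'⟩
    obtain ⟨P⟩ := (inferInstance : Nonempty (Sylow 2 (Cfsg.PSU 3 F' (2 ^ n))))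
    obtain ⟨f⟩ := H33.SylU.nonempty_equiv_PSU (F := F') (n := n) P
    have h := P.card_eq_multiplicity
    rw [← Nat.card_congr f.toEquiv, H33.SylU.card_heis, ← Nat.card_congr e.toEquiv, hfact,
      ← pow_mul] at h
    have hn2 : n = 2 := by have := Nat.pow_right_injective le_rfl h; omega
    subst hn2
    have h16 : Fintype.card F' = 16 := by rw [hF']; norm_num
    obtain ⟨g'⟩ := (H67.U34.nonempty_PSU_equiv h16).1
    obtain ⟨g⟩ := (H67.U34.nonempty_PSU_equiv hF).1
    exact ⟨e.trans (g'.symm.trans g)⟩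

end Cfsg.Agent.H27.U34
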