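import Cfsg.Agent.H27.U34.Central
import Cfsg.Agent.S0215

/-!
# Fusion of involutions in simple groups with Sylow 2-subgroups of U3(4) shape
-/

set_option autoImplicit false
set_option linter.unusedSectionVars false
set_option linter.style.haveILetI false

namespace Cfsg.Agent.H27.U34

open Subgroup Cfsg.Agent Cfsg.Agent.H53.U34

universe u

variable {G : Type u} [Group G] [Finite G] {S : Sylow 2 G}

/-- The centre of `S`, as a subgroup of `G`. -/
abbrev zS (S : Sylow 2 G) : Subgroup G :=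
  (center ↥(S : Subgroup G)).map (S : Subgroup G).subtype

theorem zS_le (S : Sylow 2 G) : zS S ≤ (S : Subgroup G) := map_subtype_le _

theorem zS_comm {z s : G} (hz : z ∈ zS S) (hs : s ∈ (S : Subgroup G)) : s * z = z * s := by
  obtain ⟨w, hw, rfl⟩ := hz
  exact congrArg Subtype.val (mem_center_iff.1 hw ⟨s, hs⟩)

theorem zS_centralizes {z : G} (hz : z ∈ zS S) : z ∈ centralizer ((S : Subgroup G) : Set G) :=
  mem_centralizer_iff.2 fun _ hs => zS_comm hz hs

theorem sylow_le_centralizer {z : G} (hz : z ∈ zS S) :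
    (S : Subgroup G) ≤ centralizer ({z} : Set G) :=
  fun _ hs => mem_centralizer_singleton_iff.2 (zS_comm hz hs)

theorem mem_zS (hS : Shape (S : Subgroup G)) {x : G} :
    x ∈ zS S ↔ x ∈ (S : Subgroup G) ∧ x * x = 1 := by
  constructor
  · rintro ⟨z, hz, rfl⟩
    exact ⟨z.2, congrArg Subtype.val ((hS.sq_eq_one z).2 hz)⟩
  · rintro ⟨hx, hsq⟩
    exact ⟨⟨x, hx⟩, (hS.sq_eq_one _).1 (Subtype.ext hsq), rfl⟩

theorem card_zS (hS : Shape (S : Subgroup G)) : Nat.card (zS S) = 4 := by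
  rw [Subgroup.card_map_of_injective (S : Subgroup G).subtype_injective, hS.card_center]

/-- Burnside's fusion lemma inside the centre of `S`. -/
theorem fusion {z g : G} (hz : z ∈ zS S) (hg : g * z * g⁻¹ ∈ zS S) :
    ∃ n ∈ normalizer (S : Set G), n * z * n⁻¹ = g * z * g⁻¹ :=
  Fusion.burnside_fusion_centralizer S (zS_centralizes hz) (zS_centralizes hg)

theorem conj_mem_zS {n z : G} (hn : n ∈ normalizer (S : Set G)) (hS : Shape (S : Subgroup G))
    (hz : z ∈ zS S) : n * z * n⁻¹ ∈ zS S := by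
  have hn : n ∈ normalizer ((S : Subgroup G) : Set G) := hn
  refine (mem_zS hS).2 ⟨(mem_normalizer_iff.1 hn z).1 (zS_le S hz), ?_⟩
  rw [conj_mul, ((mem_zS hS).1 hz).2, mul_one, mul_inv_cancel]

/-- Elements of `N(S)` act on the centre like elements of odd order. -/
theorem exists_odd_act {n : G} (hn : n ∈ normalizer (S : Set G)) :
    ∃ m ∈ normalizer (S : Set G), Odd (orderOf m) ∧
      ∀ z ∈ zS S, m * z * m⁻¹ = n * z * n⁻¹ := by
  haveI : Fact (Nat.Prime 2) := ⟨Nat.prime_two⟩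
  obtain ⟨k, m, hm, hnm⟩ := Nat.exists_eq_two_pow_mul_odd (orderOf_pos n).ne'
  have hcop : (2 ^ k).Coprime m := hm.coprime_two_left.pow_left k
  set x := (n ^ 2 ^ k) ^ Nat.gcdA (2 ^ k) m
  set y := (n ^ m) ^ Nat.gcdB (2 ^ k) m
  have hxy : n = x * y := by
    simp only [x, y]
    rw [← zpow_natCast, ← zpow_natCast, ← zpow_mul, ← zpow_mul, ← zpow_add,
      ← Nat.gcd_eq_gcd_ab, hcop.gcd_eq_one, Nat.cast_one, zpow_one]
  have hyS : y ∈ (S : Subgroup G) :=
    zpow_mem (mem_sylow_of_normalizer S (pow_mem hn _) (k := k) (by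
      rw [← pow_mul, mul_comm, ← hnm, pow_orderOf_eq_one])) _
  refine ⟨x, zpow_mem (pow_mem hn _) _, ?_, fun z hz => ?_⟩
  · refine Odd.of_dvd_nat hm ?_
    rw [← Nat.card_zpowers]
    refine (card_dvd_of_le (zpowers_le.2 (zpow_mem (mem_zpowers (n ^ 2 ^ k)) _))).trans ?_
    rw [Nat.card_zpowers]
    exact orderOf_dvd_of_pow_eq_one (by rw [← pow_mul, ← hnm, pow_orderOf_eq_one])
  · rw [hxy, mul_inv_rev, show x * y * z * (y⁻¹ * x⁻¹) = x * (y * z * y⁻¹) * x⁻¹ by group,
      zS_comm hz hyS, mul_inv_cancel_right]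

theorem commute_of_commute_sq {m z : G} (ho : Odd (orderOf m)) (h : Commute (m * m) z) :
    Commute m z := by
  obtain ⟨j, hj⟩ := ho
  have e : (m * m) ^ (j + 1) = m := by
    rw [← pow_two, ← pow_mul, show 2 * (j + 1) = orderOf m + 1 by omega, pow_succ,
      pow_orderOf_eq_one, one_mul]
  exact e ▸ h.pow_left _

/-- No element of `N(S)` swaps two elements of the centre. -/
theorem no_swap {n x y : G} (hn : n ∈ normalizer (S : Set G)) (hx : x ∈ zS S) (hy : y ∈ zS S)
    (hne : x ≠ y) (h1 : n * x * n⁻¹ = y) (h2 : n * y * n⁻¹ = x) : False := by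
  obtain ⟨m, -, ho, hm⟩ := exists_odd_act hn
  rw [← hm x hx] at h1
  rw [← hm y hy] at h2
  have hc : Commute (m * m) x := mul_inv_eq_iff_eq_mul.1 (by
    rw [mul_inv_rev, show m * m * x * (m⁻¹ * m⁻¹) = m * (m * x * m⁻¹) * m⁻¹ by group, h1, h2])
  have h3 : m * x * m⁻¹ = x := mul_inv_eq_iff_eq_mul.2 (commute_of_commute_sq ho hc).eq
  exact hne (h3.symm.trans h1)

variable [IsSimpleGroup G]

theorem oddCore_eq_bot (hS : Shape (S : Subgroup G)) : Cfsg.oddCore G = ⊥ := by
  refine ((inferInstance : (Cfsg.oddCore G).Normal).eq_bot_or_eq_top).resolve_right fun h => ?_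
  have h1 : Odd (Nat.card (Cfsg.oddCore G)) := Cores.odd_card_oddCore
  rw [h, Subgroup.card_top] at h1
  have h2 := Subgroup.card_subgroup_dvd_card (S : Subgroup G)
  rw [hS.card] at h2
  exact Nat.not_even_iff_odd.2 h1 (even_iff_two_dvd.2 ((show 2 ∣ 64 by norm_num).trans h2))

theorem not_comm (hS : Shape (S : Subgroup G)) : ∃ x y : G, x * y ≠ y * x := by
  by_contra! h
  have h1 : center ↥(S : Subgroup G) = ⊤ :=
    (eq_top_iff' _).2 fun x => mem_center_iff.2 fun y => Subtype.ext (h _ _)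
  have := hS.card_center
  rw [h1, Subgroup.card_top, hS.card] at this
  omega

/-- Every non-trivial element of the centre is moved by `N(S)`. -/
theorem exists_moved (hS : Shape (S : Subgroup G)) {z : G} (hz : z ∈ zS S) (hz1 : z ≠ 1) :
    ∃ n ∈ normalizer (S : Set G), n * z * n⁻¹ ≠ z := by
  by_contra! hall
  haveI : Fact (Nat.Prime 2) := ⟨Nat.prime_two⟩
  have hz2 : orderOf z = 2 := orderOf_eq_prime (by rw [sq]; exact ((mem_zS hS).1 hz).2) hz1
  have hiso : ∀ g : G, g * z * g⁻¹ ∈ S → g * z * g⁻¹ = z := by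
    intro g hg
    have hgZ : g * z * g⁻¹ ∈ zS S := (mem_zS hS).2 ⟨hg, by
      rw [conj_mul, ((mem_zS hS).1 hz).2, mul_one, mul_inv_cancel]⟩
    obtain ⟨n, hn, e⟩ := fusion hz hgZ
    rw [← e]
    exact hall n hn
  obtain ⟨N, hN, hodd, hcomm⟩ := S0215.result S z hz2 (zS_le S hz) hiso
  have hNbot : N = ⊥ := by
    haveI := hN
    exact le_bot_iff.1 (oddCore_eq_bot hS ▸ Cores.le_oddCore hodd)
  have hzc : z ∈ center G := mem_center_iff.2 fun g => by
    have h := hcomm g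
    rw [hNbot, mem_bot, mul_inv_eq_one, mul_inv_eq_iff_eq_mul] at h
    exact h.symm
  rcases (inferInstance : (center G).Normal).eq_bot_or_eq_top with h | h
  · rw [h, mem_bot] at hzc; exact hz1 hzc
  · obtain ⟨x, y, hxy⟩ := not_comm hS
    exact hxy (mem_center_iff.1 (h ▸ mem_top y) x)

/-- The involutions of the centre and an element of `N(S)` cycling them. -/
theorem exists_cycle (hS : Shape (S : Subgroup G)) : ∃ a b c n : G,
    a ∈ zS S ∧ b ∈ zS S ∧ c ∈ zS S ∧ (∀ z : G, z ∈ zS S ↔ z = 1 ∨ z = a ∨ z = b ∨ z = c) ∧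
    orderOf a = 2 ∧ orderOf b = 2 ∧ orderOf c = 2 ∧ a ≠ b ∧ a ≠ c ∧ b ≠ c ∧ a * b = c ∧
    n ∈ normalizer (S : Set G) ∧
    n * a * n⁻¹ = b ∧ n * b * n⁻¹ = c ∧ n * c * n⁻¹ = a := by
  haveI : Fact (Nat.Prime 2) := ⟨Nat.prime_two⟩
  obtain ⟨a, ha, ha1⟩ : ∃ a ∈ zS S, a ≠ 1 := by
    by_contra! h
    have hb : zS S = ⊥ := (eq_bot_iff_forall _).2 h
    have h4 := card_zS hS
    rw [hb, card_bot] at h4
    omega
  obtain ⟨n, hn, hna⟩ := exists_moved hS ha ha1
  set b := n * a * n⁻¹ with hbdef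
  have hb : b ∈ zS S := conj_mem_zS hn hS ha
  have hb1 : b ≠ 1 := fun h => ha1 (conj_eq_one_iff.1 h)
  have haa := ((mem_zS hS).1 ha).2
  have hbb := ((mem_zS hS).1 hb).2
  set c := a * b with hcdef
  have hc : c ∈ zS S := mul_mem ha hb
  have hc1 : c ≠ 1 := fun h => hna (by
    rw [← mul_right_inj a, ← hcdef, h, haa])
  have hab : a * b = b * a := zS_comm hb (zS_le S ha)
  have hac : a ≠ c := fun h => hb1 (left_eq_mul.1 h)
  have hbc : b ≠ c := fun h => ha1 (right_eq_mul.1 h)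
  have hmem : ∀ z : G, z ∈ zS S ↔ z = 1 ∨ z = a ∨ z = b ∨ z = c := by
    intro z
    constructor
    · intro hz
      by_contra hnot
      push Not at hnot
      obtain ⟨h1, h2, h3, h4⟩ := hnot
      have hsub : ({1, a, b, c, z} : Set G) ⊆ (zS S : Set G) := by
        intro w hw
        simp only [Set.mem_insert_iff, Set.mem_singleton_iff] at hw
        rcases hw with rfl | rfl | rfl | rfl | rfl
        exacts [one_mem _, ha, hb, hc, hz]
      have hle := Nat.card_mono (Set.toFinite (zS S : Set G)) hsub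
      have h5 : Nat.card ↥({1, a, b, c, z} : Set G) = 5 := by
        rw [Nat.card_coe_set_eq]
        have e1 : a ∉ ({b, c, z} : Set G) := by simp [Ne.symm hna, hac, Ne.symm h2]
        have e2 : b ∉ ({c, z} : Set G) := by simp [hbc, Ne.symm h3]
        have e3 : (1 : G) ∉ ({a, b, c, z} : Set G) := by
          simp [Ne.symm ha1, Ne.symm hb1, Ne.symm hc1, Ne.symm h1]
        rw [Set.ncard_insert_of_notMem e3, Set.ncard_insert_of_notMem e1,
          Set.ncard_insert_of_notMem e2, Set.ncard_pair (Ne.symm h4)]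
      have h6 := card_zS hS
      change Nat.card ↥(zS S : Set G) = 4 at h6
      omega
    · rintro (rfl | rfl | rfl | rfl)
      exacts [one_mem _, ha, hb, hc]
  have ho : ∀ w ∈ zS S, w ≠ 1 → orderOf w = 2 := fun w hw hw1 =>
    orderOf_eq_prime (by rw [sq]; exact ((mem_zS hS).1 hw).2) hw1
  have hnb : n * b * n⁻¹ = c := by
    rcases (hmem _).1 (conj_mem_zS hn hS hb) with h | h | h | h
    · exact absurd (conj_eq_one_iff.1 h) hb1
    · exact (no_swap hn ha hb (Ne.symm hna) rfl h).elim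
    · exact absurd (mul_left_cancel (mul_right_cancel (h.trans hbdef))) hna
    · exact h
  have hnc : n * c * n⁻¹ = a := by
    rw [hcdef, show n * (a * b) * n⁻¹ = (n * a * n⁻¹) * (n * b * n⁻¹) by group, hnb, ← hbdef,
      hcdef, ← mul_assoc, ← hab, mul_assoc, hbb, mul_one]
  exact ⟨a, b, c, n, ha, hb, hc, hmem, ho a ha ha1, ho b hb hb1, ho c hc hc1, Ne.symm hna, hac,
    hbc, rfl, hn, rfl, hnb, hnc⟩

/-- All involutions are conjugate to `a`. -/
theorem isConj_of_cycle (hS : Shape (S : Subgroup G)) {a b c n : G}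
    (hmem : ∀ z : G, z ∈ zS S ↔ z = 1 ∨ z = a ∨ z = b ∨ z = c)
    (ha : n * a * n⁻¹ = b) (hb : n * b * n⁻¹ = c) {i : G} (hi : orderOf i = 2) : IsConj a i := by
  haveI : Fact (Nat.Prime 2) := ⟨Nat.prime_two⟩
  have hp : IsPGroup 2 (zpowers i) := IsPGroup.of_card (n := 1) (by rw [Nat.card_zpowers, hi]; rfl)
  obtain ⟨Q, hQ⟩ := hp.exists_le_sylow
  obtain ⟨g, hg⟩ := MulAction.exists_smul_eq G Q S
  have hmemS : g * i * g⁻¹ ∈ (S : Subgroup G) := by
    have : (MulAut.conj g) i ∈ ((g • Q : Sylow 2 G) : Subgroup G) := by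
      rw [Sylow.coe_subgroup_smul]
      exact ⟨i, hQ (mem_zpowers i), rfl⟩
    rw [hg] at this
    exact this
  have hz : g * i * g⁻¹ ∈ zS S := (mem_zS hS).2 ⟨hmemS, by
    rw [conj_mul, H26.mul_self_of_orderOf_two hi, mul_one, mul_inv_cancel]⟩
  have hgi : IsConj (g * i * g⁻¹) i := (isConj_iff.2 ⟨g, rfl⟩).symm
  have hab : IsConj a b := isConj_iff.2 ⟨n, ha⟩
  rcases (hmem _).1 hz with h | h | h | h
  · exact absurd (conj_eq_one_iff.1 h) (H26.ne_one_of_orderOf_two hi)
  · rw [h] at hgi; exact hgi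
  · rw [h] at hgi; exact hab.trans hgi
  · rw [h] at hgi; exact (hab.trans (isConj_iff.2 ⟨n, hb⟩)).trans hgi

end Cfsg.Agent.H27.U34
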