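import Cfsg.Agent.H27.U34.Fusion
import Cfsg.Agent.H31.U34.Shape
import Cfsg.Agent.Components.PLocal
import Cfsg.Agent.Cores.Basic

/-!
# The centralizer of the centre of a Sylow 2-subgroup of U3(4) shape
-/

set_option autoImplicit false
set_option linter.unusedSectionVars false
set_option linter.style.haveILetI false

namespace Cfsg.Agent.H27.U34

open Subgroup Cfsg.Agent Cfsg.Agent.H53.U34

universe u

variable {G : Type u} [Group G] [Finite G]

/-- `O(H)` as a subgroup of `G`. -/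
noncomputable abbrev coreOf (H : Subgroup G) : Subgroup G := (Cfsg.oddCore ↥H).map H.subtype

theorem coreOf_le (H : Subgroup G) : coreOf H ≤ H := map_subtype_le _

theorem odd_coreOf (H : Subgroup G) : Odd (Nat.card (coreOf H)) := by
  rw [Subgroup.card_map_of_injective H.subtype_injective]
  exact Cores.odd_card_oddCore

theorem le_normalizer_coreOf (H : Subgroup G) : H ≤ normalizer (coreOf H : Set G) :=
  Components.le_normalizer_map_subtype _

theorem le_coreOf {H A : Subgroup G} (hAH : A ≤ H) (hn : H ≤ normalizer (A : Set G))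
    (ho : Odd (Nat.card A)) : A ≤ coreOf H := by
  haveI : (A.subgroupOf H).Normal := normal_subgroupOf_of_le_normalizer hn
  intro x hx
  refine ⟨⟨x, hAH hx⟩, Cores.le_oddCore (N := A.subgroupOf H) ?_ hx, rfl⟩
  rwa [Nat.card_congr (subgroupOfEquivOfLe hAH).toEquiv]

theorem odd_orderOf {H : Subgroup G} (h : Odd (Nat.card H)) {x : G} (hx : x ∈ H) :
    Odd (orderOf x) := by
  refine h.of_dvd_nat ?_
  rw [← Nat.card_zpowers]
  exact card_dvd_of_le (zpowers_le.2 hx)

theorem odd_sup {A B : Subgroup G} (h : A ≤ normalizer (B : Set G)) (hA : Odd (Nat.card A))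
    (hB : Odd (Nat.card B)) : Odd (Nat.card ↥(A ⊔ B)) := by
  have hn : A ≤ normalizer (B : Set G) := h
  set K := normalizer (B : Set G)
  haveI : (B.subgroupOf K).Normal := normal_in_normalizer
  have h1 := Cores.card_sup_dvd (A.subgroupOf K) (B.subgroupOf K)
  rw [← Subgroup.subgroupOf_sup hn le_normalizer,
    Nat.card_congr (subgroupOfEquivOfLe (sup_le hn le_normalizer)).toEquiv,
    Nat.card_congr (subgroupOfEquivOfLe hn).toEquiv,
    Nat.card_congr (subgroupOfEquivOfLe le_normalizer).toEquiv] at h1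
  exact (hA.mul hB).of_dvd_nat h1

/-- The centralizer of the centre of `S`. -/
abbrev cZ (S : Sylow 2 G) : Subgroup G := centralizer (zS S : Set G)

variable {S : Sylow 2 G}

theorem sylow_le_cZ (S : Sylow 2 G) : (S : Subgroup G) ≤ cZ S := fun _ hs =>
  mem_centralizer_iff.2 fun _ hz => (zS_comm hz hs).symm

theorem coreOf_cZ_inf_sylow (S : Sylow 2 G) : coreOf (cZ S) ⊓ (S : Subgroup G) = ⊥ :=
  (inf_comm _ _).trans (Cores.disjoint_of_isPGroup_of_coprime S.isPGroup'
    (Nat.coprime_two_right.2 (odd_coreOf (cZ S))))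

/-- `C(Z) = O(C(Z)) N(S)`. -/
theorem cZ_le (hS : Shape (S : Subgroup G)) :
    cZ S ≤ coreOf (cZ S) ⊔ (cZ S ⊓ normalizer ((S : Subgroup G) : Set G)) := by
  haveI : Fact (Nat.Prime 2) := ⟨Nat.prime_two⟩
  set T := S.subtype (sylow_le_cZ S)
  have hTeq : (T : Subgroup ↥(cZ S)) = (S : Subgroup G).subgroupOf (cZ S) := rfl
  have hT : Shape (T : Subgroup ↥(cZ S)) :=
    H31.U34.Shape.of_equiv (subgroupOfEquivOfLe (sylow_le_cZ S)).symm hS
  have hnormal := sup_sylow_normal T hT (fun z hz => mem_center_iff.2 fun g => Subtype.ext (by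
    have hz' : ((z : ↥(cZ S)) : G) ∈ zS S := ⟨⟨(z : ↥(cZ S)), z.2⟩, mem_center_iff.2 fun w =>
      Subtype.ext (congrArg (fun y : ↥(T : Subgroup ↥(cZ S)) => ((y : ↥(cZ S)) : G))
        (mem_center_iff.1 hz ⟨⟨w, sylow_le_cZ S w.2⟩, w.2⟩)), rfl⟩
    exact (mem_centralizer_iff.1 g.2 _ hz').symm))
  haveI := hnormal
  intro g hg
  have htop := (T.subtype (le_sup_right (a := Cfsg.oddCore ↥(cZ S)))).normalizer_sup_eq_top
  have h1 : (⟨g, hg⟩ : ↥(cZ S)) ∈ normalizer ((T : Subgroup ↥(cZ S)) : Set ↥(cZ S)) ⊔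
      (Cfsg.oddCore ↥(cZ S) ⊔ (T : Subgroup ↥(cZ S))) := by
    have h2 : ((T.subtype (le_sup_right (a := Cfsg.oddCore ↥(cZ S))) :
        Subgroup ↥(Cfsg.oddCore ↥(cZ S) ⊔ (T : Subgroup ↥(cZ S)))).map
          (Cfsg.oddCore ↥(cZ S) ⊔ (T : Subgroup ↥(cZ S))).subtype) = (T : Subgroup ↥(cZ S)) := by
      show ((T : Subgroup ↥(cZ S)).subgroupOf _).map _ = _
      rw [subgroupOf_map_subtype, inf_eq_left.2 le_sup_right]
    rw [h2] at htop
    rw [htop]
    exact mem_top _
  have h3 := mem_map_of_mem (cZ S).subtype h1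
  rw [Subgroup.map_sup, Subgroup.map_sup] at h3
  have hT' : (T : Subgroup ↥(cZ S)).map (cZ S).subtype ≤
      cZ S ⊓ normalizer ((S : Subgroup G) : Set G) := by
    rw [hTeq, subgroupOf_map_subtype]
    exact le_inf inf_le_right (inf_le_left.trans le_normalizer)
  refine (sup_le ?_ (sup_le le_sup_left (hT'.trans le_sup_right)) :
    (_ : Subgroup G) ≤ coreOf (cZ S) ⊔ (cZ S ⊓ normalizer ((S : Subgroup G) : Set G))) h3
  refine le_trans ?_ le_sup_right
  rintro _ ⟨y, hy, rfl⟩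
  refine ⟨y.2, mem_normalizer_iff.2 fun x => ⟨fun hx => ?_, fun hx => ?_⟩⟩
  · exact (mem_normalizer_iff.1 hy ⟨x, sylow_le_cZ S hx⟩).1 hx
  · have hxc : x ∈ cZ S := by
      have := mul_mem (mul_mem (inv_mem y.2) (sylow_le_cZ S hx)) y.2
      simpa [mul_assoc] using this
    exact (mem_normalizer_iff.1 hy ⟨x, hxc⟩).2 hx

/-- A complement of `S` in its normalizer. -/
theorem exists_complement (S : Sylow 2 G) : ∃ L : Subgroup G,
    L ≤ normalizer ((S : Subgroup G) : Set G) ∧ Odd (Nat.card L) ∧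
      ∀ g ∈ normalizer ((S : Subgroup G) : Set G), ∃ l ∈ L, ∃ s ∈ (S : Subgroup G), g = l * s := by
  haveI : Fact (Nat.Prime 2) := ⟨Nat.prime_two⟩
  set N := normalizer ((S : Subgroup G) : Set G)
  haveI : ((S : Subgroup G).subgroupOf N).Normal := normal_in_normalizer
  have hodd : Odd ((S : Subgroup G).subgroupOf N).index := by
    show Odd ((S : Subgroup G).relIndex N)
    refine Nat.not_even_iff_odd.1 fun h => S.not_dvd_index ?_
    exact (even_iff_two_dvd.1 h).trans (relIndex_dvd_index_of_le le_normalizer)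
  have hcop : (Nat.card ((S : Subgroup G).subgroupOf N)).Coprime
      ((S : Subgroup G).subgroupOf N).index := by
    rw [Nat.card_congr (subgroupOfEquivOfLe (le_normalizer (H := (S : Subgroup G)))).toEquiv]
    obtain ⟨k, hk⟩ := IsPGroup.iff_card.1 S.isPGroup'
    rw [hk]
    exact (Nat.coprime_two_left.2 hodd).pow_left k
  obtain ⟨K, hK⟩ := exists_left_complement'_of_coprime hcop
  refine ⟨K.map N.subtype, map_subtype_le _, ?_, fun g hg => ?_⟩
  · rw [Subgroup.card_map_of_injective N.subtype_injective, ← hK.index_eq_card]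
    exact hodd
  · obtain ⟨⟨l, s⟩, h, -⟩ := isComplement_iff_existsUnique.1 hK ⟨g, hg⟩
    exact ⟨_, ⟨(l : ↥N), l.2, rfl⟩, _, s.2, (congrArg Subtype.val h).symm⟩

/-- The action of an odd order subgroup of `N(S)` centralizing `Z`: cyclic of order `1` or `5`. -/
theorem exists_generator (hS : Shape (S : Subgroup G)) {L0 : Subgroup G}
    (hN : L0 ≤ normalizer ((S : Subgroup G) : Set G)) (hC : L0 ≤ cZ S)
    (hodd : Odd (Nat.card L0)) :
    ∃ q ∈ L0, ∃ n : ℕ, (n = 1 ∨ n = 5) ∧ q ^ n ∈ centralizer ((S : Subgroup G) : Set G) ∧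
      (∀ i : ℕ, q ^ i ∈ centralizer ((S : Subgroup G) : Set G) → n ∣ i) ∧
      (∀ l ∈ L0, ∃ i : ℕ, (q ^ i)⁻¹ * l ∈ centralizer ((S : Subgroup G) : Set G)) ∧
      (∀ l ∈ L0, l ∉ centralizer ((S : Subgroup G) : Set G) →
        ∀ x ∈ (S : Subgroup G), l * x * l⁻¹ * x⁻¹ ∈ zS S → x ∈ zS S) := by
  let ρ : ↥L0 →* MulAut ↥(S : Subgroup G) :=
    (normalizerMonoidHom (H := (S : Subgroup G))).comp (Subgroup.inclusion hN)
  have hρ : ∀ (l : ↥L0) (x : ↥(S : Subgroup G)), (ρ l x : G) = l * x * (l : G)⁻¹ := fun l x => rfl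
  have hker : ∀ l : ↥L0, ρ l = 1 ↔ (l : G) ∈ centralizer ((S : Subgroup G) : Set G) := by
    intro l
    rw [mem_centralizer_iff]
    constructor
    · intro h x hx
      have h1 := congrArg (fun f : MulAut ↥(S : Subgroup G) => (f ⟨x, hx⟩ : G)) h
      rw [hρ] at h1
      exact (mul_inv_eq_iff_eq_mul.1 h1).symm
    · intro h
      refine MulEquiv.ext fun x => Subtype.ext ?_
      rw [hρ, ← h x x.2, mul_inv_cancel_right]
      rfl
  have haut : ∀ l : ↥L0, ρ l = 1 ∨ (orderOf (ρ l) = 5 ∧ ∀ x : ↥(S : Subgroup G),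
      ρ l x * x⁻¹ ∈ center ↥(S : Subgroup G) → x ∈ center ↥(S : Subgroup G)) := fun l =>
    hS.aut (ρ l) ((odd_orderOf hodd l.2).of_dvd_nat
      (by rw [Subgroup.orderOf_coe]; exact orderOf_map_dvd ρ l))
      (fun z hz => Subtype.ext (by
        rw [hρ, ← mem_centralizer_iff.1 (hC l.2) (z : G) ⟨z, hz, rfl⟩, mul_inv_cancel_right]))
  have hcenter : ∀ {x : ↥(S : Subgroup G)}, (x : G) ∈ zS S → x ∈ center ↥(S : Subgroup G) :=
    fun {x} ⟨y, hy, he⟩ => Subtype.ext he ▸ hy
  -- the image has order one or five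
  set A := ρ.range with hA
  have hfive : ∀ φ ∈ A, φ ^ 5 = 1 := by
    rintro _ ⟨l, rfl⟩
    rcases haut l with h | ⟨h, -⟩
    · rw [h, one_pow]
    · rw [← h, pow_orderOf_eq_one]
  have hcard : Nat.card A = 1 ∨ Nat.card A = 5 := by
    haveI : Fact (Nat.Prime 5) := ⟨by norm_num⟩
    obtain ⟨x, hx⟩ : ∃ x : ↥(S : Subgroup G), x ∉ center ↥(S : Subgroup G) := by
      obtain ⟨x, -, hx, -⟩ := exists_sq_ne hS
      exact ⟨x, hx⟩
    have hinj : Function.Injective (fun φ : A =>
        ((φ : MulAut ↥(S : Subgroup G)) x : ↥(S : Subgroup G) ⧸ center ↥(S : Subgroup G))) := by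
      intro φ ψ h
      have h1 : ((φ : MulAut ↥(S : Subgroup G)) x)⁻¹ * (ψ : MulAut ↥(S : Subgroup G)) x ∈
          center ↥(S : Subgroup G) := QuotientGroup.eq.1 h
      by_contra hne
      obtain ⟨l, hl⟩ := (φ⁻¹ * ψ).2
      rcases haut l with h2 | ⟨-, h2⟩
      · refine hne (inv_mul_eq_one.1 (Subtype.ext ?_))
        rw [← hl, h2]; rfl
      · refine hx (h2 x ?_)
        have h3 : ρ l x = (φ : MulAut ↥(S : Subgroup G))⁻¹ ((ψ : MulAut ↥(S : Subgroup G)) x) := by
          rw [hl]; rfl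
        have h4 : ((φ : MulAut ↥(S : Subgroup G))⁻¹ (((φ : MulAut ↥(S : Subgroup G)) x)⁻¹ *
            (ψ : MulAut ↥(S : Subgroup G)) x)) ∈ center ↥(S : Subgroup G) := by
          rw [mem_center_iff] at h1 ⊢
          intro g
          apply ((φ : MulAut ↥(S : Subgroup G))).injective
          simp only [map_mul, MulAut.apply_inv_self]
          exact h1 _
        rw [map_mul, map_inv, MulAut.inv_apply_self, ← h3] at h4
        have h5 := Subgroup.Normal.mem_comm (inferInstance : (center ↥(S : Subgroup G)).Normal) h4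
        exact h5
    have hle := Nat.card_le_card_of_injective _ hinj
    have hq : Nat.card (↥(S : Subgroup G) ⧸ center ↥(S : Subgroup G)) = 16 := by
      have h := (center ↥(S : Subgroup G)).card_mul_index
      rw [hS.card, hS.card_center] at h
      rw [← Subgroup.index_eq_card]
      omega
    obtain ⟨m, hm⟩ := (IsPGroup.iff_card (p := 5) (G := A)).1 fun φ =>
      ⟨1, Subtype.ext (by simpa using hfive φ φ.2)⟩
    rcases m with _ | _ | m
    · exact Or.inl (by simpa using hm)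
    · exact Or.inr (by simpa using hm)
    · exfalso
      have : 25 ≤ Nat.card A := hm ▸
        le_trans (by norm_num) (Nat.pow_le_pow_right (by norm_num : 1 ≤ 5) (show 2 ≤ m + 1 + 1 by omega))
      omega
  obtain ⟨φ, hφ, hgen, hord⟩ : ∃ φ ∈ A, (∀ ψ ∈ A, ∃ i : ℕ, φ ^ i = ψ) ∧ orderOf φ = Nat.card A := by
    haveI : IsCyclic A := by
      rcases hcard with h | h
      · haveI := (Nat.card_eq_one_iff_unique.1 h).1
        exact isCyclic_of_subsingleton
      · haveI : Fact (Nat.Prime 5) := ⟨by norm_num⟩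
        exact isCyclic_of_prime_card h
    obtain ⟨g, hg⟩ := IsCyclic.exists_generator (α := A)
    refine ⟨g, g.2, fun ψ hψ => ?_, ?_⟩
    · obtain ⟨i, hi⟩ := mem_powers_iff_mem_zpowers.2 (hg ⟨ψ, hψ⟩)
      exact ⟨i, congrArg Subtype.val hi⟩
    · rw [Subgroup.orderOf_coe, orderOf_eq_card_of_forall_mem_zpowers hg]
  obtain ⟨q, rfl⟩ := hφ
  refine ⟨q, q.2, Nat.card A, hcard, ?_, fun i hi => ?_, fun l hl => ?_, fun l hl hne x hx hm => ?_⟩
  · have h := (hker (q ^ Nat.card A)).1 (by rw [map_pow, ← hord, pow_orderOf_eq_one])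
    rwa [Subgroup.coe_pow] at h
  · rw [← hord]
    refine orderOf_dvd_of_pow_eq_one ?_
    rw [← map_pow, hker, Subgroup.coe_pow]
    exact hi
  · obtain ⟨i, hi⟩ := hgen (ρ ⟨l, hl⟩) ⟨_, rfl⟩
    refine ⟨i, ?_⟩
    have h := (hker ((q ^ i)⁻¹ * ⟨l, hl⟩)).1
      (by rw [map_mul, map_inv, map_pow, hi, inv_mul_cancel])
    simpa using h
  · rcases haut ⟨l, hl⟩ with h | ⟨-, h⟩
    · exact absurd ((hker _).1 h) hne
    · refine ⟨⟨x, hx⟩, h ⟨x, hx⟩ (hcenter ?_), rfl⟩
      rw [Subgroup.coe_mul, Subgroup.coe_inv, hρ]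
      exact hm

end Cfsg.Agent.H27.U34
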